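import Groth.Agent.Lib.BCAcyc22.FlatCech
import Groth.Agent.Lib.BCCoh.BaseModel

/-! # Base change of global sections of flat modules without higher cohomology -/

set_option autoImplicit false
set_option maxHeartbeats 800000
universe u

open CategoryTheory CategoryTheory.Limits AlgebraicGeometry Opposite TopologicalSpace TensorProduct

namespace GrothLib.BCAcyc22

variable {A : Type u} [CommRing A] {X : Scheme.{u}} (f : X ⟶ Spec (CommRingCat.of A)) (F : X.Modules)

/-- Global sections with their module structure, as sections on `⊤`. -/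
noncomputable def secEquiv : (HTor.globalSectionsA f).obj F ≃ₗ[A] BCCoh.secA f F ⊤ where
  toFun x := x
  invFun x := x
  map_add' _ _ := rfl
  map_smul' a x := by
    show (show Γ(X, f ⁻¹ᵁ ⊤) from f.app ⊤ ((Scheme.ΓSpecIso (CommRingCat.of A)).inv a)) • (show Γ(F, f ⁻¹ᵁ ⊤) from x) =
      (show Γ(X, ⊤) from BCCoh.psiS f ⊤ a) • (show Γ(F, ⊤) from x)
    rw [show BCCoh.psiS f ⊤ a = f.appLE ⊤ ⊤ le_top ((Scheme.ΓSpecIso (CommRingCat.of A)).inv a) from rfl,
      Scheme.Hom.app_eq_appLE]
    rfl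
  left_inv _ := rfl
  right_inv _ := rfl

variable {ι : Type u} (U : ι → X.Opens)

/-- The augmentation of the Čech complex. -/
noncomputable def augA : BCCoh.secA f F ⊤ →ₗ[A] (BCCoh.cx f U F).X 0 :=
  LinearMap.pi fun a : Fin 1 → ι => BCCoh.resA f F (le_top : BCCoh.W U a ≤ ⊤)

theorem le_W {n : ℕ} (a : Fin (n + 1) → ι) {V : X.Opens} (h : ∀ k, V ≤ U (a k)) : V ≤ BCCoh.W U a := by
  refine le_of_le_of_eq (le_iInf h) ?_
  exact (Cech.obj_eq_iInf U a).symm

theorem W_le {n : ℕ} (a : Fin (n + 1) → ι) (k : Fin (n + 1)) : BCCoh.W U a ≤ U (a k) :=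
  le_of_eq_of_le (Cech.obj_eq_iInf U a) (iInf_le _ k)

theorem res_res {V W Z : X.Opens} (h : W ≤ V) (h' : Z ≤ W) (x : Γ(F, V)) :
    F.presheaf.map (homOfLE h').op (F.presheaf.map (homOfLE h).op x) = F.presheaf.map (homOfLE (h'.trans h)).op x := by
  rw [← ConcreteCategory.comp_apply, ← F.presheaf.map_comp]
  rfl

theorem le_iSup_W (hcov : iSup U = ⊤) : (⊤ : X.Opens) ≤ ⨆ a : Fin 1 → ι, BCCoh.W U a := by
  intro x _
  obtain ⟨i, hi⟩ := Opens.mem_iSup.1 (hcov.symm ▸ Opens.mem_top x : x ∈ iSup U)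
  exact Opens.mem_iSup.2 ⟨fun _ => i, le_W U (fun _ => i) (fun _ => le_rfl) hi⟩

theorem injective_augA (hcov : iSup U = ⊤) : Function.Injective (augA f F U) := fun s t h =>
  TopCat.Sheaf.eq_of_locally_eq' ⟨F.presheaf, F.isSheaf⟩ (fun a : Fin 1 → ι => BCCoh.W U a) ⊤
    (fun a => homOfLE le_top) (le_iSup_W U hcov) s t fun a => congrFun h a

theorem exact_augA (hcov : iSup U = ⊤) :
    Function.Exact (augA f F U) ((BCCoh.cx f U F).d 0 1).hom := by
  intro y
  rw [BCCoh.cx_d]
  constructor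
  · intro hy
    have hcomp : TopCat.Presheaf.IsCompatible F.presheaf (fun a : Fin 1 → ι => BCCoh.W U a) fun a => y a := by
      intro b c
      let a : Fin 2 → ι := ![b 0, c 0]
      have h1 : BCCoh.cxd f U F 0 y a = 0 := congrFun hy a
      rw [BCCoh.cxd_apply, Fin.sum_univ_two] at h1
      simp only [Fin.val_zero, pow_zero, one_smul, Fin.val_one, pow_one, neg_smul] at h1
      have h2 := add_neg_eq_zero.1 h1
      have hZ : BCCoh.W U b ⊓ BCCoh.W U c ≤ BCCoh.W U a := le_W U a fun k => by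
        fin_cases k
        · exact inf_le_left.trans (W_le U b 0)
        · exact inf_le_right.trans (W_le U c 0)
      have e0 : (fun l => a ((0 : Fin 2).succAbove l)) = c := funext fun l => by fin_cases l; rfl
      have e1 : (fun l => a ((1 : Fin 2).succAbove l)) = b := funext fun l => by fin_cases l; rfl
      have key : ∀ (p q : Fin 1 → ι) (hp : BCCoh.W U a ≤ BCCoh.W U p) (hpq : p = q)
          (hq : BCCoh.W U b ⊓ BCCoh.W U c ≤ BCCoh.W U q),
          F.presheaf.map (homOfLE hZ).op (F.presheaf.map (homOfLE hp).op (y p)) =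
            F.presheaf.map (homOfLE hq).op (y q) := by
        intro p q hp hpq hq
        subst hpq
        exact res_res F hp hZ (y p)
      have h3 := congrArg (fun z : Γ(F, BCCoh.W U a) => F.presheaf.map (homOfLE hZ).op z) h2
      exact ((key _ b _ e1 inf_le_left).symm.trans (h3.symm.trans (key _ c _ e0 inf_le_right)))
    obtain ⟨s, hs, -⟩ := TopCat.Sheaf.existsUnique_gluing' ⟨F.presheaf, F.isSheaf⟩ (fun a : Fin 1 → ι => BCCoh.W U a) ⊤
      (fun a => homOfLE le_top) (le_iSup_W U hcov) (fun a => y a) hcomp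
    exact ⟨s, funext fun a => hs a⟩
  · rintro ⟨s, rfl⟩
    funext a
    show BCCoh.cxd f U F 0 (augA f F U s) a = 0
    rw [BCCoh.cxd_apply, Fin.sum_univ_two]
    simp only [Fin.val_zero, pow_zero, one_smul, Fin.val_one, pow_one, neg_smul]
    refine add_neg_eq_zero.2 ?_
    exact (res_res F le_top _ s).trans (res_res F le_top _ s).symm

section BC

variable {B : Type u} [CommRing B] (φ : A →+* B) {X' : Scheme.{u}} (f' : X' ⟶ Spec (CommRingCat.of B)) (g : X' ⟶ X)
  (H : IsPullback g f' f (Spec.map (CommRingCat.ofHom φ))) [QuasiCompact f] [IsSeparated f] [Finite ι]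
  [F.IsQuasicoherent]

variable (hcov : iSup U = ⊤) (haff : ∀ (n : ℕ) (a : Fin (n + 1) → ι), IsAffineOpen (⨅ k, U (a k)))
  (hfl : AffFlat f F) (hv : Cohom.VanishFrom (Coh.toAb F) ⊤ 1)

include hcov haff hfl hv in
/-- **Base change of global sections.** -/
theorem isIso_bcTop :
    IsIso (((ModuleCat.extendRestrictScalarsAdj φ).homEquiv _ _).symm
      (BCCoh.bcHom φ f f' g H F ⊤ ⊤ le_top)) := by
  letI : Algebra A B := φ.toAlgebra
  let F' := (Scheme.Modules.pullback g).obj F
  let U' := fun i => g ⁻¹ᵁ U i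
  let E := ModuleCat.extendScalars φ
  let L := ((ModuleCat.extendRestrictScalarsAdj φ).homEquiv _ _).symm (BCCoh.bcHom φ f f' g H F ⊤ ⊤ le_top)
  let I := BCCoh.bcIso φ f f' g H F U haff
  have hcov' : iSup U' = ⊤ := BCCoh.iSup_preimage_eq_top g U hcov
  haveI := flat_coker_cx f U F hcov haff hfl hv 0
  haveI := flat_cx_of_affFlat f U F hfl haff 1
  have hex : Function.Exact ((augA f F U).lTensor B) (((BCCoh.cx f U F).d 0 1).hom.lTensor B) :=
    exact_lTensor_of_flat_coker _ _ (exact_augA f F U hcov) B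
  have hinj : Function.Injective ((augA f F U).lTensor B) :=
    lTensor_injective_of_flat_coker _ _ (injective_augA f F U hcov) (exact_augA f F U hcov) B
  let α : BCCoh.secA f F ⊤ ⟶ (BCCoh.cx f U F).X 0 := ConcreteCategory.ofHom (augA f F U)
  let α' : BCCoh.secA f' F' ⊤ ⟶ (BCCoh.cx f' U' F').X 0 := ConcreteCategory.ofHom (augA f' F' U')
  have hsq : E.map α ≫ I.hom.f 0 = L ≫ α' := by
    show E.map α ≫ ((ModuleCat.extendRestrictScalarsAdj φ).homEquiv _ _).symm (BCCoh.bcX φ f f' g H F U 0) = _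
    rw [← Adjunction.homEquiv_naturality_left_symm, ← Adjunction.homEquiv_naturality_right_symm]
    refine congrArg _ (ConcreteCategory.hom_ext _ _ fun s => funext fun a => ?_)
    exact (BCCoh.pullRes_res g F (le_top : BCCoh.W U a ≤ ⊤) le_top (BCCoh.preimage_W g U a).le le_top s).symm
  have hL : ∀ z, α' (L z) = I.hom.f 0 (E.map α z) := fun z => (ConcreteCategory.congr_hom hsq z).symm
  have hI : Function.Bijective (I.hom.f 0) := ConcreteCategory.bijective_of_isIso _
  rw [ConcreteCategory.isIso_iff_bijective]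
  refine ⟨fun z w h => hinj (hI.1 ((hL z).symm.trans ((congrArg α' h).trans (hL w)))), fun y => ?_⟩
  obtain ⟨v, hv'⟩ := hI.2 (α' y)
  have h0 : (BCCoh.cx f' U' F').d 0 1 (I.hom.f 0 v) = 0 := by
    rw [hv']
    exact (exact_augA f' F' U' hcov').apply_apply_eq_zero y
  have h1 : I.hom.f 1 ((CohIII.bcCx φ (BCCoh.cx f U F)).d 0 1 v) = 0 :=
    (ConcreteCategory.congr_hom (I.hom.comm 0 1) v).symm.trans h0
  have h2 : (CohIII.bcCx φ (BCCoh.cx f U F)).d 0 1 v = 0 :=
    (ConcreteCategory.bijective_of_isIso (I.hom.f 1)).1 (h1.trans (map_zero _).symm)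
  obtain ⟨z, hz⟩ := (hex v).1 h2
  refine ⟨z, injective_augA f' F' U' hcov' ?_⟩
  exact (hL z).trans ((congrArg (I.hom.f 0) hz).trans hv')

include H hcov haff hfl hv in
/-- **Pullbacks have no higher cohomology either.** -/
theorem vanishFrom_pullback : Cohom.VanishFrom (Coh.toAb ((Scheme.Modules.pullback g).obj F)) ⊤ 1 := by
  intro p hp
  obtain ⟨n, rfl⟩ := Nat.exists_eq_succ_of_ne_zero (by omega : p ≠ 0)
  letI : Algebra A B := φ.toAlgebra
  let F' := (Scheme.Modules.pullback g).obj F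
  let U' := fun i => g ⁻¹ᵁ U i
  haveI hq : F'.IsQuasicoherent := FittSheaf.isQuasicoherent_pullback g F
  haveI := flat_coker_cx f U F hcov haff hfl hv (n + 1)
  have hex : Function.Exact (((BCCoh.cx f U F).d n (n + 1)).hom.lTensor B)
      (((BCCoh.cx f U F).d (n + 1) (n + 2)).hom.lTensor B) :=
    exact_lTensor_of_flat_coker _ _ (exact_cx f U F hcov haff hv n) B
  have h1 : (CohIII.bcCx φ (BCCoh.cx f U F)).ExactAt (n + 1) := by
    rw [HomologicalComplex.exactAt_iff' _ n (n + 1) (n + 2) (by simp) (by simp),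
      ShortComplex.ShortExact.moduleCat_exact_iff_function_exact]
    exact hex
  have h2 : (BCCoh.cx f' U' F').ExactAt (n + 1) := h1.of_iso (BCCoh.bcIso φ f f' g H F U haff)
  obtain ⟨e, -, -⟩ := BCCoh.exists_linearEquiv f' U' (BCCoh.iSup_preimage_eq_top g U hcov)
    (BCCoh.isAffineOpen_preimage_iInf φ (f := f) f' g H U haff) (n + 1)
  haveI : Subsingleton ((BCCoh.cx f' U' F').homology (n + 1)) :=
    ModuleCat.subsingleton_of_isZero ((HomologicalComplex.exactAt_iff_isZero_homology _ _).1 h2)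
  haveI : Subsingleton (Coh.HH X' F' (n + 1)) := (e F' hq).toEquiv.subsingleton
  exact @Equiv.subsingleton _ _ (Cohom.HEquivTop (Coh.toAb F') (n + 1)).symm.toEquiv inferInstance

end BC

end GrothLib.BCAcyc22
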