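import Groth.Agent.CechExtra25.Basic
import Groth.Agent.Lib.OX.AcyclicPush
import Groth.Agent.Lib.QCoh.Abelian
import Groth.Prelude.Def_CechOX
import Mathlib.Algebra.Homology.QuasiIso
import Mathlib.Algebra.Homology.SingleHomology
import Mathlib.CategoryTheory.Limits.Preserves.Shapes.Products

/-! # The Čech complex of sheaves is a resolution -/

set_option autoImplicit false
set_option maxHeartbeats 800000
universe u

open CategoryTheory CategoryTheory.Limits AlgebraicGeometry Opposite TopologicalSpace AlgebraicTopology Simplicial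

namespace GrothLib.BCAcyc22

variable {X : Scheme.{u}} {ι : Type u} (U : ι → X.Opens) (j : ι) (F : X.Modules)

/-- The family cut down to a member. -/
abbrev cut : ι → X.Opens := fun i => U i ⊓ U j

/-- The cut family maps to the family. -/
noncomputable def cutHom : FormalCoproduct.mk _ (cut U j) ⟶ FormalCoproduct.mk _ U where
  f i := i
  φ _ := homOfLE inf_le_left

/-- The comparison of the Čech complexes of sheaves. -/
noncomputable def cutMap :
    (CechOX.cechSh U).obj F ⟶ (cechComplexFunctor (cut U j)).obj (CechOX.pushRestrFam.flip.obj F) :=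
  (alternatingCofaceMapComplex X.Modules).map
    (Functor.whiskerRight (NatTrans.rightOp (FormalCoproduct.cechFunctor.map (cutHom U j)))
      ((FormalCoproduct.evalOp.{u} X.Opens X.Modules).obj (CechOX.pushRestrFam.flip.obj F)))

theorem cutMap_f (n : ℕ) :
    (cutMap U j F).f n = Pi.lift fun a : Fin (n + 1) → ι =>
      Pi.π (fun b : Fin (n + 1) → ι => (CechOX.pushRestr (∏ᶜ (U ∘ b))).obj F) a ≫
        CechOX.pushRestrMapApp (leOfHom (Limits.Pi.map fun k => homOfLE (inf_le_left : U (a k) ⊓ U j ≤ U (a k)))) F :=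
  rfl

theorem inter_eq_of_le {W W' V : X.Opens} (h' : W' ≤ W) (h : W ⊓ V ≤ W') :
    W.ι ''ᵁ (W.ι ⁻¹ᵁ V) = W'.ι ''ᵁ (W'.ι ⁻¹ᵁ V) := by
  rw [Scheme.Hom.image_preimage_eq_opensRange_inf, Scheme.Hom.image_preimage_eq_opensRange_inf,
    Scheme.Opens.opensRange_ι, Scheme.Opens.opensRange_ι]
  exact le_antisymm (le_inf h inf_le_right) (inf_le_inf_right V h')

theorem isIso_restrict_pushRestrMap {W W' : X.Opens} (h' : W' ≤ W) (h : W ⊓ U j ≤ W') :
    IsIso ((Scheme.Modules.restrictFunctor (U j).ι).map (CechOX.pushRestrMapApp h' F)) := by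
  rw [Scheme.Modules.Hom.isIso_iff_isIso_app]
  intro V
  have hV : (U j).ι ''ᵁ V ≤ U j := (U j).ι_image_le V
  have e := inter_eq_of_le (V := (U j).ι ''ᵁ V) h' ((inf_le_inf_left W hV).trans h)
  show IsIso (F.presheaf.map (homOfLE (CechOX.image_preimage_mono h' ((U j).ι ''ᵁ V))).op)
  have : IsIso (homOfLE (CechOX.image_preimage_mono h' ((U j).ι ''ᵁ V))) :=
    ⟨homOfLE e.le, Subsingleton.elim _ _, Subsingleton.elim _ _⟩
  infer_instance

theorem isIso_restrict_cutMap (n : ℕ) :
    IsIso ((Scheme.Modules.restrictFunctor (U j).ι).map ((cutMap U j F).f n)) := by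
  let R := Scheme.Modules.restrictFunctor (U j).ι
  let s := fun a : Fin (n + 1) → ι => (CechOX.pushRestr (∏ᶜ (U ∘ a))).obj F
  let t := fun a : Fin (n + 1) → ι => (CechOX.pushRestr (∏ᶜ (cut U j ∘ a))).obj F
  let m : ∀ a, s a ⟶ t a := fun a =>
    CechOX.pushRestrMapApp (leOfHom (Limits.Pi.map fun k => homOfLE (inf_le_left : U (a k) ⊓ U j ≤ U (a k)))) F
  have hm : ∀ a, IsIso (R.map (m a)) := fun a => isIso_restrict_pushRestrMap U j F _ (by
    refine leOfHom (Pi.lift (f := cut U j ∘ a) fun k => homOfLE ?_)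
    exact le_inf (inf_le_left.trans (leOfHom (Pi.π (U ∘ a) k))) inf_le_right)
  haveI : PreservesLimitsOfSize.{u, u} R := inferInstance
  rw [cutMap_f]
  have e : R.map (Pi.lift fun a => Pi.π s a ≫ m a) ≫ piComparison R t =
      piComparison R s ≫ Limits.Pi.map fun a => R.map (m a) := by
    refine Pi.hom_ext _ _ fun a => ?_
    rw [Category.assoc, Category.assoc, piComparison_comp_π, Limits.Pi.map_π, piComparison_comp_π_assoc,
      ← Functor.map_comp, Pi.lift_π, Functor.map_comp]
  haveI := hm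
  have h1 : IsIso (Limits.Pi.map fun a => R.map (m a)) := inferInstance
  have h2 : IsIso (piComparison R s) := inferInstance
  exact @IsIso.of_isIso_fac_right _ _ _ _ _ _ _ _ (inferInstanceAs (IsIso (piComparison R t)))
    (@IsIso.comp_isIso _ _ _ _ _ _ _ h2 h1) e

/-- The Čech complex of the cut family is homotopy equivalent to one module. -/
noncomputable def cutEquiv :
    HomotopyEquiv ((CochainComplex.single₀ X.Modules).obj ((CechOX.pushRestr (U j)).obj F))
      ((cechComplexFunctor (cut U j)).obj (CechOX.pushRestrFam.flip.obj F)) :=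
  CechExtra25.cechHomotopyEquiv (cut U j) (fun _ => homOfLE inf_le_right) (CechOX.pushRestrFam.flip.obj F)
    (i₀ := j) (homOfLE (le_inf le_rfl le_rfl))

theorem cechShAug_π (a : Fin 1 → ι) :
    CechOX.cechShAug U F ≫ Pi.π (fun b : Fin 1 → ι => (CechOX.pushRestr (∏ᶜ (U ∘ b))).obj F) a =
      (Scheme.Modules.restrictAdjunction (∏ᶜ (U ∘ a)).ι).unit.app F :=
  Pi.lift_π _ _

theorem cutMap_f_π (n : ℕ) (a : Fin (n + 1) → ι) :
    (cutMap U j F).f n ≫ Pi.π (fun b : Fin (n + 1) → ι => (CechOX.pushRestr (∏ᶜ (cut U j ∘ b))).obj F) a =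
      Pi.π (fun b : Fin (n + 1) → ι => (CechOX.pushRestr (∏ᶜ (U ∘ b))).obj F) a ≫
        CechOX.pushRestrMapApp (leOfHom (Limits.Pi.map fun k => homOfLE (inf_le_left : U (a k) ⊓ U j ≤ U (a k)))) F :=
  Pi.lift_π _ _

theorem cutEquiv_hom_π (a : Fin 1 → ι) :
    (cutEquiv U j F).hom.f 0 ≫ Pi.π (fun b : Fin 1 → ι => (CechOX.pushRestr (∏ᶜ (cut U j ∘ b))).obj F) a =
      CechOX.pushRestrMapApp (leOfHom (Pi.π (cut U j ∘ a) 0 ≫ homOfLE inf_le_right)) F := by
  show (Pi.lift (fun _ : PUnit.{u + 1} => 𝟙 ((CechOX.pushRestr (U j)).obj F)) ≫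
    Pi.lift (fun b : Fin 1 → ι => Pi.π _ PUnit.unit ≫
      CechOX.pushRestrMapApp (leOfHom (Pi.π (cut U j ∘ b) 0 ≫ homOfLE inf_le_right)) F)) ≫ Pi.π _ a = _
  rw [Category.assoc, Pi.lift_π, Pi.lift_π_assoc, Category.id_comp]

theorem unit_pushRestrMap {W W' : X.Opens} (h : W' ≤ W) :
    (Scheme.Modules.restrictAdjunction W.ι).unit.app F ≫ CechOX.pushRestrMapApp h F =
      (Scheme.Modules.restrictAdjunction W'.ι).unit.app F := by
  apply Scheme.Modules.hom_ext
  intro V
  rw [Scheme.Modules.Hom.comp_app, Scheme.Modules.restrictAdjunction_unit_app_app,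
    Scheme.Modules.restrictAdjunction_unit_app_app, CechOX.pushRestrMapApp_app]
  exact (F.presheaf.map_comp _ _).symm.trans (congrArg F.presheaf.map (Subsingleton.elim _ _))

theorem aug_cutMap :
    CechOX.cechShAug U F ≫ (cutMap U j F).f 0 =
      (Scheme.Modules.restrictAdjunction (U j).ι).unit.app F ≫ (cutEquiv U j F).hom.f 0 := by
  refine Pi.hom_ext _ _ fun a => ?_
  refine (Category.assoc _ _ _).trans (Eq.trans ?_ (Category.assoc _ _ _).symm)
  refine (congrArg (CechOX.cechShAug U F ≫ ·) (cutMap_f_π U j F 0 a)).trans (Eq.trans ?_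
    (congrArg ((Scheme.Modules.restrictAdjunction (U j).ι).unit.app F ≫ ·) (cutEquiv_hom_π U j F a)).symm)
  refine (Category.assoc _ _ _).symm.trans ((congrArg (· ≫ _) (cechShAug_π U F a)).trans ?_)
  exact (unit_pushRestrMap F _).trans (unit_pushRestrMap F _).symm

theorem isIso_restrict_unit :
    IsIso ((Scheme.Modules.restrictFunctor (U j).ι).map ((Scheme.Modules.restrictAdjunction (U j).ι).unit.app F)) := by
  rw [Scheme.Modules.Hom.isIso_iff_isIso_app]
  intro V
  show IsIso (F.presheaf.map (homOfLE ((U j).ι.image_preimage_le ((U j).ι ''ᵁ V))).op)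
  have : IsIso (homOfLE ((U j).ι.image_preimage_le ((U j).ι ''ᵁ V))) := ⟨homOfLE (by
    rw [Scheme.Hom.image_preimage_eq_opensRange_inf, Scheme.Opens.opensRange_ι]
    exact le_inf ((U j).ι_image_le V) le_rfl), Subsingleton.elim _ _, Subsingleton.elim _ _⟩
  infer_instance

/-- The augmentation as a map of complexes. -/
noncomputable def augMap (hd : CechOX.cechShAug U F ≫ ((CechOX.cechSh U).obj F).d 0 1 = 0) :
    (CochainComplex.single₀ X.Modules).obj F ⟶ (CechOX.cechSh U).obj F :=
  ((CochainComplex.fromSingle₀Equiv _ _).symm ⟨CechOX.cechShAug U F, hd⟩)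

theorem restrict_aug_d : (Scheme.Modules.restrictFunctor (U j).ι).map
    (CechOX.cechShAug U F ≫ ((CechOX.cechSh U).obj F).d 0 1) = 0 := by
  let R := Scheme.Modules.restrictFunctor (U j).ι
  haveI : IsIso (R.map ((cutMap U j F).f 1)) := isIso_restrict_cutMap U j F 1
  rw [← cancel_mono (R.map ((cutMap U j F).f 1)), zero_comp, ← Functor.map_comp, Category.assoc,
    ← (cutMap U j F).comm 0 1, reassoc_of% (aug_cutMap U j F)]
  have h := (cutEquiv U j F).hom.comm 0 1
  rw [show ((CochainComplex.single₀ X.Modules).obj ((CechOX.pushRestr (U j)).obj F)).d 0 1 = 0 from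
    HomologicalComplex.single_obj_d _ _ _ _ _, zero_comp] at h
  refine (congrArg R.map ((congrArg (_ ≫ ·) h).trans comp_zero)).trans (R.map_zero _ _)

theorem aug_d (hcov : ⨆ i, U i = ⊤) : CechOX.cechShAug U F ≫ ((CechOX.cechSh U).obj F).d 0 1 = 0 := by
  refine Scheme.Modules.hom_ext _ _ fun V => ConcreteCategory.hom_ext _ _ fun s => ?_
  refine TopCat.Sheaf.eq_of_locally_eq' ⟨(((CechOX.cechSh U).obj F).X 1).presheaf,
      (((CechOX.cechSh U).obj F).X 1).isSheaf⟩ (fun i : ι => (U i).ι ''ᵁ ((U i).ι ⁻¹ᵁ V)) V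
    (fun i => homOfLE ((U i).ι.image_preimage_le V)) ?_ _ _ fun i => ?_
  · intro x hx
    obtain ⟨i, hi⟩ := Opens.mem_iSup.1 (hcov.symm ▸ Opens.mem_top x : x ∈ ⨆ i, U i)
    exact Opens.mem_iSup.2 ⟨i, by
      rw [Scheme.Hom.image_preimage_eq_opensRange_inf, Scheme.Opens.opensRange_ι]
      exact ⟨hi, hx⟩⟩
  · refine Eq.trans ?_ (map_zero _).symm
    refine (ConcreteCategory.congr_hom (CechOX.app_naturality
      (CechOX.cechShAug U F ≫ ((CechOX.cechSh U).obj F).d 0 1)
      (homOfLE ((U i).ι.image_preimage_le V)).op) s).symm.trans ?_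
    exact congrArg (fun c : (Scheme.Modules.restrictFunctor (U i).ι).obj F ⟶
        (Scheme.Modules.restrictFunctor (U i).ι).obj (((CechOX.cechSh U).obj F).X 1) =>
        c.app ((U i).ι ⁻¹ᵁ V) (F.presheaf.map (homOfLE ((U i).ι.image_preimage_le V)).op s))
      (restrict_aug_d U i F)

theorem quasiIso_augMap (hcov : ⨆ i, U i = ⊤) : QuasiIso (augMap U F (aug_d U F hcov)) := by
  rw [quasiIso_iff]
  intro n
  rw [quasiIsoAt_iff_isIso_homologyMap]
  refine OX.isIso_of_restrict_cover _ U
    (fun x => Opens.mem_iSup.1 (hcov.symm ▸ Opens.mem_top x : x ∈ ⨆ i, U i)) fun i => ?_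
  let R := Scheme.Modules.restrictFunctor (U i).ι
  let Rc := R.mapHomologicalComplex (ComplexShape.up ℕ)
  haveI : ∀ k, IsIso ((Rc.map (cutMap U i F)).f k) := fun k => isIso_restrict_cutMap U i F k
  haveI : IsIso (Rc.map (cutMap U i F)) := HomologicalComplex.Hom.isIso_of_components _
  haveI := isIso_restrict_unit U i F
  have e : augMap U F (aug_d U F hcov) ≫ cutMap U i F =
      (CochainComplex.single₀ X.Modules).map ((Scheme.Modules.restrictAdjunction (U i).ι).unit.app F) ≫
        (cutEquiv U i F).hom := by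
    apply HomologicalComplex.from_single_hom_ext
    simp only [HomologicalComplex.comp_f, CochainComplex.single₀_map_f_zero]
    exact (congrArg (· ≫ _) (by simp [augMap] : (augMap U F (aug_d U F hcov)).f 0 = CechOX.cechShAug U F)).trans
      (aug_cutMap U i F)
  have h1 : QuasiIso (Rc.map ((cutEquiv U i F).hom)) :=
    inferInstanceAs (QuasiIso ((R.mapHomotopyEquiv (cutEquiv U i F)).hom))
  have h2 : IsIso (Rc.map ((CochainComplex.single₀ X.Modules).map
      ((Scheme.Modules.restrictAdjunction (U i).ι).unit.app F))) := by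
    haveI : ∀ k, IsIso ((Rc.map ((CochainComplex.single₀ X.Modules).map
        ((Scheme.Modules.restrictAdjunction (U i).ι).unit.app F))).f k) := fun k => by
      match k with
      | 0 =>
        show IsIso (R.map (((CochainComplex.single₀ X.Modules).map _).f 0))
        rw [CochainComplex.single₀_map_f_zero]
        exact isIso_restrict_unit U i F
      | k + 1 =>
        exact ⟨0, (R.map_isZero (HomologicalComplex.isZero_single_obj_X _ _ _ _ (Nat.succ_ne_zero k))).eq_of_src _ _,
          (R.map_isZero (HomologicalComplex.isZero_single_obj_X _ _ _ _ (Nat.succ_ne_zero k))).eq_of_src _ _⟩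
    exact HomologicalComplex.Hom.isIso_of_components _
  haveI := h1
  haveI := h2
  have h3 : QuasiIso (Rc.map (augMap U F (aug_d U F hcov)) ≫ Rc.map (cutMap U i F)) := by
    rw [← Functor.map_comp, e, Functor.map_comp]
    infer_instance
  haveI : QuasiIso (Rc.map (augMap U F (aug_d U F hcov))) := quasiIso_of_comp_right _ (Rc.map (cutMap U i F))
  have h4 : QuasiIsoAt (augMap U F (aug_d U F hcov)) n → True := fun _ => trivial
  have h5 := (quasiIsoAt_iff_isIso_homologyMap (Rc.map (augMap U F (aug_d U F hcov))) n).1 inferInstance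
  exact (NatIso.isIso_map_iff (ShortComplex.homologyFunctorIso R).symm
    ((HomologicalComplex.shortComplexFunctor X.Modules (ComplexShape.up ℕ) n).map
      (augMap U F (aug_d U F hcov)))).2 h5

theorem isZero_homology_cechSh (hcov : ⨆ i, U i = ⊤) (p : ℕ) :
    IsZero (((CechOX.cechSh U).obj F).homology (p + 1)) := by
  haveI := quasiIso_augMap U F hcov
  exact IsZero.of_iso ((HomologicalComplex.exactAt_iff_isZero_homology _ _).1
      (CochainComplex.exactAt_succ_single_obj F p))
    (asIso (HomologicalComplex.homologyMap (augMap U F (aug_d U F hcov)) (p + 1))).symm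

theorem exact_mono_aug (hcov : ⨆ i, U i = ⊤) :
    (ShortComplex.mk _ _ (aug_d U F hcov)).Exact ∧ Mono (CechOX.cechShAug U F) := by
  haveI := quasiIso_augMap U F hcov
  have h : QuasiIsoAt (augMap U F (aug_d U F hcov)) 0 := inferInstance
  rw [CochainComplex.quasiIsoAt₀_iff, ShortComplex.quasiIso_iff_of_zeros] at h
  · obtain ⟨h1, h2⟩ := h
    have e : (augMap U F (aug_d U F hcov)).f 0 = CechOX.cechShAug U F := by simp [augMap]
    refine ⟨ShortComplex.exact_of_iso (ShortComplex.isoMk (Iso.refl _) (Iso.refl _) (Iso.refl _) ?_ ?_) h1, e ▸ h2⟩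
    · exact (Category.id_comp _).trans (e.symm.trans (Category.comp_id _).symm)
    · exact (Category.id_comp _).trans (Category.comp_id _).symm
  all_goals first | (rfl) | (exact HomologicalComplex.single_obj_d _ _ _ _ _) | (simp)

end GrothLib.BCAcyc22
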