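import Groth.Agent.Lib.OX.AcyclicPush
import Groth.Agent.Lib.OX.RRLocal
import Groth.Agent.Lib.RelVanish.Basic
import Groth.Prelude.Def_HTor

/-! # Complexes of quasi-coherent acyclic modules compute `RΓ(X, -)` as `A`-modules -/

set_option autoImplicit false
set_option maxHeartbeats 800000
universe u

open CategoryTheory CategoryTheory.Limits AlgebraicGeometry Opposite

attribute [local instance] HasDerivedCategory.standard

namespace GrothLib.BCAcyc22

variable {A : Type u} [CommRing A] {X : Scheme.{u}} (f : X ⟶ Spec (CommRingCat.of A))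

/-- Vanishing of positive cohomology gives acyclicity for the direct image to an affine base. -/
theorem isAcyclicObj_of_vanishFrom [QuasiCompact f] [QuasiSeparated f] [HasInjectiveResolutions X.Modules]
    (F : X.Modules) (hF : Coh.IsQCoh F) (h : Cohom.VanishFrom (Coh.toAb F) ⊤ 1) :
    GrothSS.IsAcyclicObj (Scheme.Modules.pushforward f) F := fun k =>
  haveI : F.IsQuasicoherent := hF
  RelVanish.isZero_Rpush_of_cover f F (k + 1) (fun _ : PUnit.{1} => (⊤ : (Spec (CommRingCat.of A)).Opens))
    (fun _ => isAffineOpen_top _) (fun _ => ⟨PUnit.unit, trivial⟩) fun _ => h (k + 1) (by omega)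

theorem isIso_gammaAKh_unit [QuasiCompact f] [QuasiSeparated f] [HasInjectiveResolutions X.Modules]
    (T : CochainComplex X.Modules ℤ) (hq : ∀ n, Coh.IsQCoh (T.X n))
    (hv : ∀ n, Cohom.VanishFrom (Coh.toAb (T.X n)) ⊤ 1) :
    IsIso ((HTor.gammaAKh f).map
      ((KInj.resAdj X.Modules).unit.app ((HomotopyCategory.quotient _ _).obj T))) := by
  let S := Spec (CommRingCat.of A)
  let J := (HomotopyCategory.quotient X.Modules (ComplexShape.up ℤ)).obj T
  let η : ((Scheme.Modules.pushforward f).mapHomotopyCategory (ComplexShape.up ℤ)).obj J ⟶ _ :=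
    ((Scheme.Modules.pushforward f).mapHomotopyCategory (ComplexShape.up ℤ)).map
      ((KInj.resAdj X.Modules).unit.app J)
  have hacq : ∀ n, Coh.IsQCoh ((((Scheme.Modules.pushforward f).mapHomologicalComplex
      (ComplexShape.up ℤ)).obj T).X n) := fun n =>
    haveI : (T.X n).IsQuasicoherent := hq n
    QCoh.isQuasicoherent_pushforward f (T.X n)
  have : IsIso (DerivedCategory.Qh.map η) :=
    OX.isIso_pushUnit_of_acyclic f T hq fun n => isAcyclicObj_of_vanishFrom f _ (hq n) (hv n)
  have h : IsIso ((DCoh.gammaKh S).map η) := OX.isIso_gammaKh_map η fun k =>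
    SiteDer.bijective_comp_of_Qh _
      (OX.bijective_Qh_gen_qcoh (((Scheme.Modules.pushforward f).mapHomologicalComplex (ComplexShape.up ℤ)).obj T)
        hacq (isAffineOpen_top S) k)
      (SiteDer.bijective_Qh_pushK (OX.rmor f) (KInj.rightOrthogonal_res _) ⊤ k)
  obtain ⟨g, hg⟩ := (HomotopyCategory.quotient _ _).map_surjective
    (X := T) (Y := ((KInj.res X.Modules).obj (DerivedCategory.Qh.obj J)).as) ((KInj.resAdj X.Modules).unit.app J)
  have hg' : (KInj.resAdj X.Modules).unit.app J = (HomotopyCategory.quotient _ _).map g := hg.symm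
  let g' := ((HTor.globalSectionsA f).mapHomologicalComplex (ComplexShape.up ℤ)).map g
  have h1 : QuasiIso (((forget₂ (ModuleCat.{u} A) AddCommGrpCat.{u}).mapHomologicalComplex
      (ComplexShape.up ℤ)).map g') := by
    rw [← DerivedCategory.isIso_Q_map_iff_quasiIso]
    refine (NatIso.isIso_map_iff (DerivedCategory.quotientCompQhIso AddCommGrpCat.{u}) _).1 ?_
    simp only [η, hg'] at h
    exact h
  have h2 : QuasiIso g' :=
    (HomologicalComplex.quasiIso_map_iff_of_preservesHomology g' (forget₂ (ModuleCat.{u} A) AddCommGrpCat.{u})).1 h1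
  rw [hg']
  refine (NatIso.isIso_map_iff (DerivedCategory.quotientCompQhIso (ModuleCat.{u} A)) g').2 ?_
  exact (DerivedCategory.isIso_Q_map_iff_quasiIso (ModuleCat.{u} A) g').2 h2

/-- **Computation of `RΓ`**: a complex of quasi-coherent acyclic modules computes `RΓ`. -/
theorem computes [QuasiCompact f] [QuasiSeparated f] [HasInjectiveResolutions X.Modules] [HTor.HasRΓA f]
    (T : CochainComplex X.Modules ℤ) (hq : ∀ n, Coh.IsQCoh (T.X n))
    (hv : ∀ n, Cohom.VanishFrom (Coh.toAb (T.X n)) ⊤ 1) :
    HTor.Computes f (((HTor.globalSectionsA f).mapHomologicalComplex (ComplexShape.up ℤ)).obj T)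
      (DCoh.toD X T) := by
  have := isIso_gammaAKh_unit f T hq hv
  exact ⟨(DerivedCategory.quotientCompQhIso (ModuleCat.{u} A)).symm.app _ ≪≫
    @asIso _ _ _ _ ((HTor.gammaAKh f).map ((KInj.resAdj X.Modules).unit.app ((HomotopyCategory.quotient _ _).obj T))) this ≪≫
    ((KInj.res X.Modules) ⋙ HTor.gammaAKh f).mapIso ((DerivedCategory.quotientCompQhIso X.Modules).app T) ≪≫
    ((KInj.totalRightDerivedIso (HTor.gammaAKh f)).app _).symm⟩

end GrothLib.BCAcyc22
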