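import Mathlib.Algebra.Homology.DerivedCategory.ShortExact
import Mathlib.Algebra.Homology.HomotopyCategory.MappingCocone
import Mathlib.Algebra.Homology.HomologicalComplexAbelian
import Mathlib.Algebra.Homology.DerivedCategory.HomologySequence

/-! # Iterated two-term resolutions of complexes by acyclic objects -/

set_option autoImplicit false
set_option maxHeartbeats 800000
universe w v u v' u'

open CategoryTheory CategoryTheory.Limits CategoryTheory.Pretriangulated CochainComplex CochainComplex.HomComplex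

namespace GrothLib.BCAcyc22

variable {C : Type u} [Category.{v} C] [Abelian C]

/-- A short exact sequence with an identity summand added on the right. -/
theorem shortExact_addId {S : ShortComplex C} (hS : S.ShortExact) (S' : ShortComplex C) (e₁ : S'.X₁ ≅ S.X₁)
    {T : C} (p₁ : S'.X₂ ⟶ S.X₂) (i₁ : S.X₂ ⟶ S'.X₂) (p₂ : S'.X₂ ⟶ T) (i₂ : T ⟶ S'.X₂)
    (q₁ : S'.X₃ ⟶ S.X₃) (j₁ : S.X₃ ⟶ S'.X₃) (q₂ : S'.X₃ ⟶ T) (j₂ : T ⟶ S'.X₃)
    (h₁₁ : i₁ ≫ p₁ = 𝟙 _) (h₁₂ : i₁ ≫ p₂ = 0) (h₂₁ : i₂ ≫ p₁ = 0) (h₂₂ : i₂ ≫ p₂ = 𝟙 _)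
    (hid : p₁ ≫ i₁ + p₂ ≫ i₂ = 𝟙 _) (hjd : q₁ ≫ j₁ + q₂ ≫ j₂ = 𝟙 _)
    (hf₁ : S'.f ≫ p₁ = e₁.hom ≫ S.f) (hf₂ : S'.f ≫ p₂ = 0)
    (hg₁ : S'.g ≫ q₁ = p₁ ≫ S.g) (hg₂ : S'.g ≫ q₂ = p₂) : S'.ShortExact := by
  have := hS.mono_f
  have := hS.epi_g
  have hmono : Mono S'.f := by
    have : Mono (S'.f ≫ p₁) := by rw [hf₁]; infer_instance
    exact mono_of_mono S'.f p₁
  refine { exact := ?_, mono_f := hmono, epi_g := ?_ }
  · refine S'.exact_of_f_is_kernel (KernelFork.IsLimit.ofι' _ S'.zero fun {A} k hk => ?_)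
    have hk₁ : (k ≫ p₁) ≫ S.g = 0 := by rw [Category.assoc, ← hg₁, ← Category.assoc, hk, zero_comp]
    have hk₂ : k ≫ p₂ = 0 := by rw [← hg₂, ← Category.assoc, hk, zero_comp]
    refine ⟨hS.exact.lift (k ≫ p₁) hk₁ ≫ e₁.inv, ?_⟩
    conv_rhs => rw [← Category.comp_id k, ← hid, Preadditive.comp_add, reassoc_of% hk₂, zero_comp, add_zero,
      ← Category.assoc, ← hS.exact.lift_f (k ≫ p₁) hk₁]
    rw [← Category.comp_id S'.f, ← hid, Preadditive.comp_add, reassoc_of% hf₁, reassoc_of% hf₂, zero_comp,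
      add_zero]
    simp
  · refine Preadditive.epi_of_cancel_zero _ fun {A} h hh => ?_
    have hh₁ : S.g ≫ j₁ ≫ h = 0 := by
      have e : i₁ ≫ S'.g = S.g ≫ j₁ := by
        conv_lhs => rw [← Category.comp_id S'.g, ← hjd, Preadditive.comp_add, reassoc_of% hg₁, reassoc_of% hg₂,
          Preadditive.comp_add, reassoc_of% h₁₁, reassoc_of% h₁₂, zero_comp, add_zero]
      rw [← reassoc_of% e, hh, comp_zero]
    have hh₂ : j₂ ≫ h = 0 := by
      have e : i₂ ≫ S'.g = j₂ := by
        conv_lhs => rw [← Category.comp_id S'.g, ← hjd, Preadditive.comp_add, reassoc_of% hg₁, reassoc_of% hg₂,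
          Preadditive.comp_add, reassoc_of% h₂₁, reassoc_of% h₂₂, zero_comp, zero_add]
      rw [← e, Category.assoc, hh, comp_zero]
    have hh₁' : j₁ ≫ h = 0 := (cancel_epi S.g).1 (hh₁.trans comp_zero.symm)
    rw [← Category.id_comp h, ← hjd, Preadditive.add_comp, Category.assoc, Category.assoc, hh₁', hh₂, comp_zero,
      comp_zero, add_zero]

section Cocone

variable {K L M P : CochainComplex C ℤ} (η : P ⟶ K) (π : K ⟶ M) (hηπ : η ≫ π = 0) (u : M ⟶ L)

/-- The comparison into the cocone of the composite. -/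
noncomputable def intoCocone : P ⟶ mappingCocone (π ≫ u) :=
  mappingCocone.lift (π ≫ u) η 0 (by rw [δ_zero, zero_add, reassoc_of% hηπ, zero_comp, Cochain.ofHom_zero])

theorem intoCocone_fst (p : ℤ) :
    (intoCocone η π hηπ u).f p ≫ (mappingCocone.fst (π ≫ u)).f p = η.f p :=
  mappingCocone.lift_f_fst_f _ _ _ _ p

theorem intoCocone_snd (p q : ℤ) (hq : p + -1 = q) :
    (intoCocone η π hηπ u).f p ≫ (mappingCocone.snd (π ≫ u)).v p q hq = 0 :=
  (mappingCocone.lift_f_snd_v _ _ _ _ p q hq).trans (Cochain.zero_v _ _ _)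

/-- Maps into a term of a cocone are determined by their two components. -/
theorem cocone_ext {K L : CochainComplex C ℤ} (φ : K ⟶ L) {A : C} {p q : ℤ} (hq : p + -1 = q)
    {a b : A ⟶ (mappingCocone φ).X p} (h₁ : a ≫ (mappingCocone.fst φ).f p = b ≫ (mappingCocone.fst φ).f p)
    (h₂ : a ≫ (mappingCocone.snd φ).v p q hq = b ≫ (mappingCocone.snd φ).v p q hq) : a = b := by
  rw [← Category.comp_id a, ← Category.comp_id b, ← mappingCocone.id_X φ p q hq, Preadditive.comp_add,
    Preadditive.comp_add, reassoc_of% h₁, reassoc_of% h₂]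

/-- The map between the cocones. -/
noncomputable def coconeMap : mappingCocone (π ≫ u) ⟶ mappingCocone u :=
  (mappingCone.map (π ≫ u) u π (𝟙 L) (Category.comp_id _))⟦(-1 : ℤ)⟧'

theorem coconeMap_fst (p : ℤ) :
    (coconeMap π u).f p ≫ (mappingCocone.fst u).f p = (mappingCocone.fst (π ≫ u)).f p ≫ π.f p := by
  simp [coconeMap, mappingCocone.fst, mappingCone.map, mappingCocone,
    Cochain.leftShift_v (n := 1) _ _ _ _ _ p _ (p + -1) (by lia),
    mappingCone.ext_from_iff (π ≫ u) p (p + -1) (by lia)]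
  constructor <;> erw [neg_neg, neg_neg] <;> erw [Category.id_comp, Category.id_comp] <;> simp

theorem coconeMap_snd (p q : ℤ) (hq : p + -1 = q) :
    (coconeMap π u).f p ≫ (mappingCocone.snd u).v p q hq = (mappingCocone.snd (π ≫ u)).v p q hq := by
  obtain rfl := hq
  simp [coconeMap, mappingCocone.snd, mappingCone.map, mappingCocone,
    Cochain.leftShift_v (n := 0) _ _ _ _ _ _ _ _ (add_zero (p + -1)), Int.negOnePow_even 2 ⟨1, rfl⟩,
    mappingCone.ext_from_iff (π ≫ u) p (p + -1) (by lia)]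
  constructor <;> erw [Category.id_comp, Category.id_comp] <;> simp

/-- The row `P → cocone (π ≫ u) → cocone u`. -/
noncomputable def coconeSeq : ShortComplex (CochainComplex C ℤ) :=
  ShortComplex.mk (intoCocone η π hηπ u) (coconeMap π u) (by
    ext p
    have hz : η.f p ≫ π.f p = 0 := congrArg (fun φ : P ⟶ M => φ.f p) hηπ
    refine cocone_ext u (q := p + -1) rfl ?_ ?_
    · rw [HomologicalComplex.comp_f, Category.assoc, coconeMap_fst, HomologicalComplex.zero_f, zero_comp]
      simp [intoCocone, hz]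
    · rw [HomologicalComplex.comp_f, Category.assoc, coconeMap_snd, HomologicalComplex.zero_f, zero_comp]
      simp [intoCocone])

variable {D : Type u'} [Category.{v'} D] [Abelian D] (Φ : C ⥤ D) [Φ.Additive]

/-- Cocones of quasi-isomorphisms remain acyclic after a functor keeping the map a quasi-isomorphism. -/
theorem isZero_Q_map_mappingCocone [HasDerivedCategory.{w} D]
    (hu : QuasiIso ((Φ.mapHomologicalComplex (ComplexShape.up ℤ)).map u)) :
    IsZero (DerivedCategory.Q.obj ((Φ.mapHomologicalComplex (ComplexShape.up ℤ)).obj (mappingCocone u))) := by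
  let u' := (Φ.mapHomologicalComplex (ComplexShape.up ℤ)).map u
  have hT : DerivedCategory.Q.mapTriangle.obj (mappingCone.triangle u') ∈ distTriang (DerivedCategory D) :=
    (DerivedCategory.mem_distTriang_iff _).2 ⟨_, _, u', ⟨Iso.refl _⟩⟩
  have : IsIso (DerivedCategory.Q.map u') := inferInstance
  have h3 : IsZero (DerivedCategory.Q.obj (mappingCone u')) :=
    (Triangle.isZero₃_iff_isIso₁ _ hT).2 (inferInstanceAs (IsIso (DerivedCategory.Q.map u')))
  refine IsZero.of_iso ((CategoryTheory.shiftFunctor (DerivedCategory D) (-1 : ℤ)).map_isZero h3) ?_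
  exact DerivedCategory.Q.mapIso (((Φ.mapHomologicalComplex (ComplexShape.up ℤ)).commShiftIso (-1 : ℤ)).app
      (mappingCone u) ≪≫ (CategoryTheory.shiftFunctor _ (-1 : ℤ)).mapIso (mappingCone.mapHomologicalComplexIso u Φ)) ≪≫
    (DerivedCategory.Q.commShiftIso (-1 : ℤ)).app (mappingCone u')

/-- The comparison into the cocone is a quasi-isomorphism after `Φ`. -/
theorem quasiIso_map_intoCocone
    (hS : ∀ p, ((ShortComplex.mk (η.f p) (π.f p) (congrArg (fun φ : P ⟶ M => φ.f p) hηπ)).map Φ).ShortExact)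
    (hu : QuasiIso ((Φ.mapHomologicalComplex (ComplexShape.up ℤ)).map u)) :
    QuasiIso ((Φ.mapHomologicalComplex (ComplexShape.up ℤ)).map (intoCocone η π hηπ u)) := by
  letI := HasDerivedCategory.standard D
  let Φc := Φ.mapHomologicalComplex (ComplexShape.up ℤ)
  have hse : ((coconeSeq η π hηπ u).map Φc).ShortExact :=
    HomologicalComplex.shortExact_of_degreewise_shortExact _ fun p => by
      refine shortExact_addId (hS p) _ (Iso.refl _) (T := Φ.obj (L.X (p + -1)))
        (Φ.map ((mappingCocone.fst (π ≫ u)).f p)) (Φ.map ((mappingCocone.inl (π ≫ u)).v p p (add_zero p)))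
        (Φ.map ((mappingCocone.snd (π ≫ u)).v p (p + -1) rfl))
        (Φ.map ((mappingCocone.inr (π ≫ u)).1.v (p + -1) p (by simp)))
        (Φ.map ((mappingCocone.fst u).f p)) (Φ.map ((mappingCocone.inl u).v p p (add_zero p)))
        (Φ.map ((mappingCocone.snd u).v p (p + -1) rfl))
        (Φ.map ((mappingCocone.inr u).1.v (p + -1) p (by simp)))
        ?_ ?_ ?_ ?_ ?_ ?_ ?_ ?_ ?_ ?_
      · exact (Φ.map_comp _ _).symm.trans ((congrArg Φ.map (mappingCocone.inl_v_fst_f _ p)).trans (Φ.map_id _))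
      · exact (Φ.map_comp _ _).symm.trans ((congrArg Φ.map (mappingCocone.inl_v_snd_v _ p _ rfl)).trans (Φ.map_zero _ _))
      · exact (Φ.map_comp _ _).symm.trans ((congrArg Φ.map (mappingCocone.inr_v_fst_f _ _ p (by simp))).trans (Φ.map_zero _ _))
      · exact (Φ.map_comp _ _).symm.trans ((congrArg Φ.map (mappingCocone.inr_v_snd_v _ (p + -1) p (by simp))).trans (Φ.map_id _))
      · exact (((congrArg₂ (· + ·) (Φ.map_comp _ _).symm (Φ.map_comp _ _).symm).trans (Φ.map_add).symm).trans
          (congrArg Φ.map (mappingCocone.id_X _ p _ rfl))).trans (Φ.map_id _)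
      · exact (((congrArg₂ (· + ·) (Φ.map_comp _ _).symm (Φ.map_comp _ _).symm).trans (Φ.map_add).symm).trans
          (congrArg Φ.map (mappingCocone.id_X _ p _ rfl))).trans (Φ.map_id _)
      · exact ((Φ.map_comp _ _).symm.trans (congrArg Φ.map (intoCocone_fst η π hηπ u p))).trans
          (Category.id_comp _).symm
      · exact ((Φ.map_comp _ _).symm.trans (congrArg Φ.map (intoCocone_snd η π hηπ u p _ rfl))).trans
          (Φ.map_zero _ _)
      · exact (Φ.map_comp _ _).symm.trans ((congrArg Φ.map (coconeMap_fst π u p)).trans (Φ.map_comp _ _))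
      · exact (Φ.map_comp _ _).symm.trans (congrArg Φ.map (coconeMap_snd π u p _ rfl))
  have hz := isZero_Q_map_mappingCocone u Φ hu
  have h1 := (Triangle.isZero₃_iff_isIso₁ _ (DerivedCategory.triangleOfSES_distinguished hse)).1 hz
  exact ((DerivedCategory.isIso_Q_map_iff_quasiIso (C := D)) _).1 h1

end Cocone

/-- A functorial embedding into acyclic objects, with a graded vanishing condition that drops on cokernels. -/
structure Step (C : Type u) [Category.{v} C] [Abelian C] where
  /-- the functor -/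
  G : C ⥤ C
  additive : G.Additive
  /-- the embedding -/
  η : 𝟭 C ⟶ G
  /-- the class of objects -/
  P : C → Prop
  /-- vanishing above a degree -/
  Van : ℕ → C → Prop
  mono : ∀ X, P X → Mono (η.app X)
  P_G : ∀ X, P X → P (G.obj X)
  P_coker : ∀ X, P X → P (cokernel (η.app X))
  van_G : ∀ X, P X → Van 0 (G.obj X)
  van_coker : ∀ X k, P X → Van (k + 1) X → Van k (cokernel (η.app X))
  P_biprod : ∀ {X Y Z : C}, (Z ≅ X ⊞ Y) → P X → P Y → P Z
  van_biprod : ∀ {X Y Z : C}, (Z ≅ X ⊞ Y) → P X → P Y → Van 0 X → Van 0 Y → Van 0 Z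

attribute [instance] Step.additive

namespace Step

variable (s : Step C)

/-- The cokernel functor of the embedding. -/
@[simps]
noncomputable def R : C ⥤ C where
  obj X := cokernel (s.η.app X)
  map f := cokernel.map _ _ f (s.G.map f) (s.η.naturality f).symm

instance : s.R.Additive where
  map_add {X Y f g} := by
    apply coequalizer.hom_ext
    show cokernel.π _ ≫ cokernel.map _ _ (f + g) (s.G.map (f + g)) (s.η.naturality _).symm =
      cokernel.π _ ≫ (cokernel.map _ _ f (s.G.map f) (s.η.naturality _).symm + cokernel.map _ _ g (s.G.map g) (s.η.naturality _).symm)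
    rw [Preadditive.comp_add]
    erw [cokernel.π_desc, cokernel.π_desc, cokernel.π_desc]
    rw [Functor.map_add, Preadditive.add_comp]

/-- The projection. -/
@[simps]
noncomputable def π : s.G ⟶ s.R where
  app X := cokernel.π (s.η.app X)
  naturality X Y f := (cokernel.π_desc _ _ _).symm

theorem η_π (X : C) : s.η.app X ≫ s.π.app X = 0 := cokernel.condition _

theorem shortExact (X : C) (h : s.P X) :
    (ShortComplex.mk (s.η.app X) (s.π.app X) (s.η_π X)).ShortExact :=
  have := s.mono X h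
  { exact := ShortComplex.exact_of_g_is_cokernel _ (cokernelIsCokernel _)
    epi_g := inferInstanceAs (Epi (cokernel.π (s.η.app X))) }

/-- **Acyclic resolutions of complexes.** -/
theorem exists_resolution {D : Type u'} [Category.{v'} D] [Abelian D] (k : ℕ) :
    ∀ P : CochainComplex C ℤ, (∀ n, s.P (P.X n)) → (∀ n, s.Van k (P.X n)) →
    ∃ (T : CochainComplex C ℤ) (v : P ⟶ T), (∀ n, s.P (T.X n) ∧ s.Van 0 (T.X n)) ∧
      (∀ a : ℤ, (∀ i, i < a → IsZero (P.X i)) → ∀ i, i < a → IsZero (T.X i)) ∧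
      (∀ b : ℤ, (∀ i, b < i → IsZero (P.X i)) → ∀ i, b + k < i → IsZero (T.X i)) ∧
      QuasiIso v ∧
      ∀ (Φ : C ⥤ D) [Φ.Additive],
        (∀ X, s.P X → ((ShortComplex.mk (s.η.app X) (s.π.app X) (s.η_π X)).map Φ).ShortExact) →
        QuasiIso ((Φ.mapHomologicalComplex (ComplexShape.up ℤ)).map v) := by
  induction k with
  | zero =>
    intro P hP hV
    refine ⟨P, 𝟙 P, fun n => ⟨hP n, hV n⟩, fun a ha => ha, fun b hb i hi => hb i (by simpa using hi),
      inferInstance, fun Φ _ _ => ?_⟩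
    rw [CategoryTheory.Functor.map_id]
    infer_instance
  | succ k ih =>
    intro P hP hV
    let η : P ⟶ (s.G.mapHomologicalComplex (ComplexShape.up ℤ)).obj P :=
      { f := fun i => s.η.app (P.X i)
        comm' := fun i j _ => (s.η.naturality (P.d i j)).symm }
    let π : (s.G.mapHomologicalComplex (ComplexShape.up ℤ)).obj P ⟶
        (s.R.mapHomologicalComplex (ComplexShape.up ℤ)).obj P :=
      (NatTrans.mapHomologicalComplex s.π (ComplexShape.up ℤ)).app P
    have hz : η ≫ π = 0 := by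
      ext i
      exact s.η_π (P.X i)
    obtain ⟨T', u, hT', hlo, hhi, hu, hΦ⟩ := ih ((s.R.mapHomologicalComplex (ComplexShape.up ℤ)).obj P)
      (fun n => s.P_coker _ (hP n)) (fun n => s.van_coker _ k (hP n) (hV n))
    let e : ∀ n, (mappingCocone (π ≫ u)).X n ≅ s.G.obj (P.X n) ⊞ T'.X (n + -1) := fun n =>
      { hom := biprod.lift ((mappingCocone.fst (π ≫ u)).f n) ((mappingCocone.snd (π ≫ u)).v n (n + -1) rfl)
        inv := biprod.desc ((mappingCocone.inl (π ≫ u)).v n n (add_zero n))
          ((mappingCocone.inr (π ≫ u)).1.v (n + -1) n (by simp))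
        hom_inv_id := by rw [biprod.lift_desc]; exact mappingCocone.id_X _ _ _ _
        inv_hom_id := by
          ext <;> simp only [Category.assoc, biprod.lift_fst, biprod.lift_snd, biprod.inl_desc, biprod.inr_desc,
            biprod.inl_desc_assoc, biprod.inr_desc_assoc, Category.comp_id, biprod.inl_fst, biprod.inl_snd,
            biprod.inr_fst, biprod.inr_snd]
          · exact mappingCocone.inl_v_fst_f _ n
          · exact mappingCocone.inl_v_snd_v _ n _ rfl
          · exact mappingCocone.inr_v_fst_f _ _ n _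
          · exact mappingCocone.inr_v_snd_v _ _ n _ }
    refine ⟨mappingCocone (π ≫ u), intoCocone η π hz u,
      fun n => ⟨s.P_biprod (e n) (s.P_G _ (hP n)) (hT' _).1,
        s.van_biprod (e n) (s.P_G _ (hP n)) (hT' _).1 (s.van_G _ (hP n)) (hT' _).2⟩, ?_, ?_, ?_, ?_⟩
    · intro a ha i hi
      refine IsZero.of_iso ((biprod_isZero_iff _ _).2 ⟨s.G.map_isZero (ha i hi), ?_⟩) (e i)
      exact hlo a (fun j hj => s.R.map_isZero (ha j hj)) _ (by omega)
    · intro b hb i hi
      push_cast at hi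
      refine IsZero.of_iso ((biprod_isZero_iff _ _).2 ⟨s.G.map_isZero (hb i (by omega)), ?_⟩) (e i)
      exact hhi b (fun j hj => s.R.map_isZero (hb j hj)) _ (by omega)
    · have h := quasiIso_map_intoCocone η π hz u (𝟭 C) (fun p => by
        exact ShortComplex.shortExact_of_iso (Iso.refl _) (s.shortExact _ (hP p))) (by
        refine (quasiIso_iff_of_arrow_mk_iso u _ ?_).1 hu
        exact Arrow.isoMk (Iso.refl _) (Iso.refl _) ((Category.id_comp _).trans (Category.comp_id _).symm))
      refine (quasiIso_iff_of_arrow_mk_iso _ _ ?_).1 h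
      exact Arrow.isoMk (Iso.refl _) (Iso.refl _) ((Category.id_comp _).trans (Category.comp_id _).symm)
    · intro Φ _ hΦ'
      exact quasiIso_map_intoCocone η π hz u Φ (fun p => hΦ' _ (hP p)) (hΦ Φ hΦ')

end Step

end GrothLib.BCAcyc22
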