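import Groth.Agent.Lib.AffDiag22.Basic
import Groth.Agent.Lib.BCAcyc22.Resolve
import Groth.Agent.Lib.BCAcyc22.Compute
import Groth.Agent.Lib.BCCoh.Core
import Groth.Prelude.Def_CechOX

/-! # The first step of the Čech resolution of a module -/

set_option autoImplicit false
set_option maxHeartbeats 800000
universe u

open CategoryTheory CategoryTheory.Limits AlgebraicGeometry Opposite TopologicalSpace TensorProduct

namespace GrothLib.BCAcyc22

/-- The cokernel of a universally injective map into a flat module is flat. -/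
theorem flat_of_univ_injective {A : Type u} [CommRing A] {F G R : Type u} [AddCommGroup F] [Module A F]
    [AddCommGroup G] [Module A G] [AddCommGroup R] [Module A R] [Module.Flat A G] (f : F →ₗ[A] G) (g : G →ₗ[A] R)
    (hfg : Function.Exact f g) (hg : Function.Surjective g)
    (hf : ∀ (M : Type u) [AddCommGroup M] [Module A M], Function.Injective (f.rTensor M)) : Module.Flat A R := by
  rw [Module.Flat.iff_lTensor_preserves_injective_linearMap]
  intro N M _ _ _ _ n hn
  rw [injective_iff_map_eq_zero]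
  intro z hz
  obtain ⟨y, rfl⟩ := LinearMap.rTensor_surjective N hg z
  have hy : g.rTensor M (n.lTensor G y) = 0 := by
    rw [← LinearMap.comp_apply, LinearMap.rTensor_comp_lTensor, ← LinearMap.lTensor_comp_rTensor]
    exact hz
  obtain ⟨x, hx⟩ := (rTensor_exact M hfg hg _).1 hy
  let q : M →ₗ[A] M ⧸ LinearMap.range n := (LinearMap.range n).mkQ
  have hq : Function.Exact n q := LinearMap.exact_map_mkQ_range n
  have hx0 : q.lTensor F x = 0 := by
    apply hf (M ⧸ LinearMap.range n)
    rw [map_zero, ← LinearMap.comp_apply, LinearMap.rTensor_comp_lTensor, ← LinearMap.lTensor_comp_rTensor,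
      LinearMap.comp_apply, hx]
    exact (lTensor_exact G hq (Submodule.mkQ_surjective _)).apply_apply_eq_zero y
  obtain ⟨x', rfl⟩ := (lTensor_exact F hq (Submodule.mkQ_surjective _) x).1 hx0
  have hy' : y = f.rTensor N x' := by
    apply Module.Flat.lTensor_preserves_injective_linearMap (M := G) n hn
    rw [← hx]
    simp only [← LinearMap.comp_apply, LinearMap.rTensor_comp_lTensor, LinearMap.lTensor_comp_rTensor]
  rw [hy', ← LinearMap.comp_apply, ← LinearMap.rTensor_comp, hfg.linearMap_comp_eq_zero, LinearMap.rTensor_zero,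
    LinearMap.zero_apply]

variable {A : Type u} [CommRing A] {X : Scheme.{u}} (f : X ⟶ Spec (CommRingCat.of A))

/-- Sections over affine opens are flat over the base. -/
def AffFlat (F : X.Modules) : Prop := ∀ V : X.Opens, IsAffineOpen V → Module.Flat A (BCCoh.secA f F V)

theorem affFlat_of_isFlatOver (F : X.Modules) (hF : Coh.IsQCoh F) (h : FlatMod.IsFlatOver f F) : AffFlat f F :=
  fun _ hV =>
    haveI : F.IsQuasicoherent := hF
    BCCoh.flat_secA f F h hV

theorem appA_add {F G : X.Modules} (a b : F ⟶ G) (V : X.Opens) :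
    BCCoh.appA f (a + b) V = BCCoh.appA f a V + BCCoh.appA f b V := rfl

theorem appA_comp {F G H : X.Modules} (a : F ⟶ G) (b : G ⟶ H) (V : X.Opens) :
    BCCoh.appA f (a ≫ b) V = (BCCoh.appA f b V).comp (BCCoh.appA f a V) := rfl

theorem appA_id {F : X.Modules} (V : X.Opens) : BCCoh.appA f (𝟙 F) V = LinearMap.id := rfl

theorem affFlat_of_retract {F G : X.Modules} (i : F ⟶ G) (r : G ⟶ F) (h : i ≫ r = 𝟙 F) (hG : AffFlat f G) :
    AffFlat f F := fun V hV =>
  haveI := hG V hV
  Module.Flat.of_retract (BCCoh.appA f i V) (BCCoh.appA f r V)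
    ((appA_comp f i r V).symm.trans ((congrArg (fun a => BCCoh.appA f a V) h).trans (appA_id f V)))

theorem sum_comp' {κ : Type*} [Fintype κ] {E F G : Type*} [AddCommGroup E] [Module A E] [AddCommGroup F]
    [Module A F] [AddCommGroup G] [Module A G] (a : κ → F →ₗ[A] G) (g : E →ₗ[A] F) :
    (∑ i, a i).comp g = ∑ i, (a i).comp g := by ext x; simp

theorem flat_prod {F G : Type u} [AddCommGroup F] [Module A F] [AddCommGroup G] [Module A G] [Module.Flat A F]
    [Module.Flat A G] : Module.Flat A (F × G) := by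
  rw [Module.Flat.iff_lTensor_preserves_injective_linearMap]
  intro N M _ _ _ _ n hn
  rw [injective_iff_map_eq_zero]
  intro z hz
  have h1 : (LinearMap.fst A F G).rTensor N z = 0 := by
    apply Module.Flat.lTensor_preserves_injective_linearMap (M := F) n hn
    rw [map_zero, ← LinearMap.comp_apply, LinearMap.lTensor_comp_rTensor, ← LinearMap.rTensor_comp_lTensor,
      LinearMap.comp_apply, hz, map_zero]
  have h2 : (LinearMap.snd A F G).rTensor N z = 0 := by
    apply Module.Flat.lTensor_preserves_injective_linearMap (M := G) n hn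
    rw [map_zero, ← LinearMap.comp_apply, LinearMap.lTensor_comp_rTensor, ← LinearMap.rTensor_comp_lTensor,
      LinearMap.comp_apply, hz, map_zero]
  have h3 : (LinearMap.id : F × G →ₗ[A] F × G) = (LinearMap.inl A F G).comp (LinearMap.fst A F G) +
      (LinearMap.inr A F G).comp (LinearMap.snd A F G) := by ext <;> simp
  have h4 := LinearMap.congr_fun (congrArg (LinearMap.rTensor N) h3) z
  rw [LinearMap.rTensor_id, LinearMap.rTensor_add, LinearMap.rTensor_comp, LinearMap.rTensor_comp,
    LinearMap.add_apply, LinearMap.comp_apply, LinearMap.comp_apply, h1, h2, map_zero, map_zero, add_zero] at h4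
  exact h4

theorem affFlat_biprod {F G H : X.Modules} (e : H ≅ F ⊞ G) (hF : AffFlat f F) (hG : AffFlat f G) :
    AffFlat f H := fun V hV => by
  haveI := hF V hV
  haveI := hG V hV
  haveI : Module.Flat A (BCCoh.secA f F V × BCCoh.secA f G V) := flat_prod
  refine Module.Flat.of_retract ((BCCoh.appA f (e.hom ≫ biprod.fst) V).prod (BCCoh.appA f (e.hom ≫ biprod.snd) V))
    ((BCCoh.appA f (biprod.inl ≫ e.inv) V).coprod (BCCoh.appA f (biprod.inr ≫ e.inv) V)) (LinearMap.ext fun x => ?_)
  have h : (e.hom ≫ biprod.fst) ≫ (biprod.inl ≫ e.inv) + (e.hom ≫ biprod.snd) ≫ (biprod.inr ≫ e.inv) = 𝟙 H := by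
    simp only [Category.assoc, ← Preadditive.comp_add]
    rw [← Category.assoc biprod.fst, ← Category.assoc biprod.snd, ← Preadditive.add_comp, biprod.total]
    simp
  exact LinearMap.congr_fun ((congrArg (fun a => BCCoh.appA f a V) h).trans (appA_id f V)) x

theorem vanishFrom_of_biproduct {ι : Type*} [Fintype ι] (G : ι → X.Modules) (H : X.Modules) (p : ∀ i, H ⟶ G i)
    (j : ∀ i, G i ⟶ H) (h : ∑ i, p i ≫ j i = 𝟙 H) (U : X.Opens) (d : ℕ)
    (hv : ∀ i, Cohom.VanishFrom (Coh.toAb (G i)) U d) : Cohom.VanishFrom (Coh.toAb H) U d := fun n hn => by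
  refine subsingleton_of_forall_eq 0 fun x => ?_
  let T := QCoh.toAbFun X
  have e : x = ∑ i, (x.comp (Abelian.Ext.mk₀ (T.map (p i))) (add_zero n)).comp
      (Abelian.Ext.mk₀ (T.map (j i))) (add_zero n) := by
    have h1 : ∀ i, (x.comp (Abelian.Ext.mk₀ (T.map (p i))) (add_zero n)).comp
        (Abelian.Ext.mk₀ (T.map (j i))) (add_zero n) =
        x.comp (Abelian.Ext.mk₀ (T.map (p i ≫ j i))) (add_zero n) := fun i => by
      rw [Abelian.Ext.comp_assoc_of_third_deg_zero, Abelian.Ext.mk₀_comp_mk₀, T.map_comp]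
    simp only [h1]
    rw [← Abelian.Ext.comp_sum, ← Abelian.Ext.mk₀_sum, ← Functor.map_sum, h, T.map_id, Abelian.Ext.comp_mk₀_id]
  rw [e]
  refine Finset.sum_eq_zero fun i _ => ?_
  haveI := hv i n hn
  rw [Subsingleton.elim (x.comp (Abelian.Ext.mk₀ (T.map (p i))) (add_zero n)) 0, Abelian.Ext.zero_comp]

theorem vanishFrom_coker {S : ShortComplex X.Modules} (hS : S.ShortExact) {U : X.Opens} {k : ℕ}
    (h₁ : Cohom.VanishFrom (Coh.toAb S.X₁) U (k + 2)) (h₂ : Cohom.VanishFrom (Coh.toAb S.X₂) U 1) :
    Cohom.VanishFrom (Coh.toAb S.X₃) U (k + 1) := fun n hn => by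
  refine subsingleton_of_forall_eq 0 fun x => ?_
  haveI : Subsingleton (Abelian.Ext.{u} (Cohom.freeFun.obj U) (S.map (QCoh.toAbFun X)).X₁ (n + 1)) :=
    h₁ (n + 1) (by omega)
  haveI : Subsingleton (Abelian.Ext.{u} (Cohom.freeFun.obj U) (S.map (QCoh.toAbFun X)).X₂ n) := h₂ n (by omega)
  obtain ⟨y, rfl⟩ := Abelian.Ext.covariant_sequence_exact₃ (Cohom.freeFun.obj U) (QCoh.toAbFun_map_shortExact S hS) x rfl
    (Subsingleton.elim _ _)
  rw [Subsingleton.elim y 0, Abelian.Ext.zero_comp]
  rfl

variable {ι : Type u} [Fintype ι] (U : ι → X.Opens)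

/-- The sum of the direct images of the restrictions to the members. -/
noncomputable def cechG : X.Modules ⥤ X.Modules where
  obj F := ∏ᶜ fun i => (CechOX.pushRestr (U i)).obj F
  map a := Limits.Pi.map fun i => (CechOX.pushRestr (U i)).map a
  map_id F := by ext; simp
  map_comp a b := by ext; simp

instance : (cechG U).Additive where
  map_add {F G a b} := by
    refine Pi.hom_ext _ _ fun i => ?_
    show Limits.Pi.map (fun i => (CechOX.pushRestr (U i)).map (a + b)) ≫
        Pi.π (fun i => (CechOX.pushRestr (U i)).obj G) i =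
      (Limits.Pi.map (fun i => (CechOX.pushRestr (U i)).map a) +
        Limits.Pi.map (fun i => (CechOX.pushRestr (U i)).map b)) ≫ Pi.π (fun i => (CechOX.pushRestr (U i)).obj G) i
    rw [Preadditive.add_comp, Limits.Pi.map_π, Limits.Pi.map_π, Limits.Pi.map_π, ← Preadditive.comp_add]
    congr 1
/-- The restrictions. -/
noncomputable def cechη : 𝟭 X.Modules ⟶ cechG U where
  app F := Limits.Pi.lift fun i => (Scheme.Modules.restrictAdjunction (U i).ι).unit.app F
  naturality F G a := by
    refine Pi.hom_ext _ _ fun i => ?_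
    simp only [cechG, Functor.id_map, Category.assoc, Limits.Pi.lift_π, Limits.Pi.map_π, Limits.Pi.lift_π_assoc]
    exact (Scheme.Modules.restrictAdjunction (U i).ι).unit.naturality a

theorem cechη_π (F : X.Modules) (i : ι) :
    (cechη U).app F ≫ Pi.π (fun i => (CechOX.pushRestr (U i)).obj F) i =
      (Scheme.Modules.restrictAdjunction (U i).ι).unit.app F := Limits.Pi.lift_π _ _

theorem cechη_app_eq_zero {F : X.Modules} {V : X.Opens} {s : Γ(F, V)} (h : ((cechη U).app F).app V s = 0)
    (i : ι) : F.presheaf.map (homOfLE ((U i).ι.image_preimage_le V)).op s = 0 := by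
  have h2 := congrArg (fun a : F ⟶ (CechOX.pushRestr (U i)).obj F => a.app V s) (cechη_π U F i)
  refine h2.symm.trans ?_
  show (Pi.π (fun i => (CechOX.pushRestr (U i)).obj F) i).app V (((cechη U).app F).app V s) = 0
  exact (congrArg _ h).trans (map_zero _)

theorem injective_cechη_app (hcov : ⨆ i, U i = ⊤) (F : X.Modules) (V : X.Opens) :
    Function.Injective (((cechη U).app F).app V) := by
  rw [injective_iff_map_eq_zero]
  intro s hs
  refine TopCat.Sheaf.eq_of_locally_eq' ⟨F.presheaf, F.isSheaf⟩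
    (fun i : ι => (U i).ι ''ᵁ ((U i).ι ⁻¹ᵁ V)) V (fun i => homOfLE ((U i).ι.image_preimage_le V)) ?_ s 0
    fun i => (cechη_app_eq_zero U hs i).trans (map_zero _).symm
  intro x hx
  obtain ⟨i, hi⟩ := Opens.mem_iSup.1 (hcov.symm ▸ Opens.mem_top x : x ∈ ⨆ i, U i)
  exact Opens.mem_iSup.2 ⟨i, by
    rw [Scheme.Hom.image_preimage_eq_opensRange_inf, Scheme.Opens.opensRange_ι]
    exact ⟨hi, hx⟩⟩

theorem mono_cechη (hcov : ⨆ i, U i = ⊤) (F : X.Modules) : Mono ((cechη U).app F) :=
  ⟨fun {G} a b hab => Scheme.Modules.hom_ext a b fun V => ConcreteCategory.hom_ext _ _ fun s =>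
    injective_cechη_app U hcov F V (congrArg (fun c : G ⟶ (cechG U).obj F => c.app V s) hab)⟩

theorem cechG_total (F : X.Modules) :
    ∃ j : ∀ i, (CechOX.pushRestr (U i)).obj F ⟶ (cechG U).obj F,
      ∑ i, Pi.π (fun i => (CechOX.pushRestr (U i)).obj F) i ≫ j i = 𝟙 ((cechG U).obj F) := by
  classical
  refine ⟨fun i => Limits.Pi.lift fun k => if h : i = k then eqToHom (by rw [h]) else 0, Pi.hom_ext _ _ fun k => ?_⟩
  show (∑ i : ι, _) ≫ Pi.π (fun i => (CechOX.pushRestr (U i)).obj F) k = 𝟙 _ ≫ _
  refine (Preadditive.sum_comp _ _ _).trans ?_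
  rw [Finset.sum_eq_single k]
  · simp [cechG]
  · intro i _ hik
    refine (Category.assoc _ _ _).trans ?_
    simp [hik]
  · simp

section Affine

variable [IsAffineHom (pullback.diagonal f)] (hU : ∀ i, IsAffineOpen (U i))

include f hU in
theorem isAffineOpen_inter (i : ι) {V : X.Opens} (hV : IsAffineOpen V) :
    IsAffineOpen ((U i).ι ''ᵁ ((U i).ι ⁻¹ᵁ V)) := by
  haveI : IsAffineHom (pullback.diagonal (terminal.from X)) := AffDiag22.affineDiag_terminal f
  rw [Scheme.Hom.image_preimage_eq_opensRange_inf, Scheme.Opens.opensRange_ι]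
  exact (hU i).inf hV

/-- Sections of the direct image from a member are sections over the intersection, linearly. -/
noncomputable def pieceEquiv (F : X.Modules) (i : ι) (V : X.Opens) :
    BCCoh.secA f ((CechOX.pushRestr (U i)).obj F) V ≃ₗ[A] BCCoh.secA f F ((U i).ι ''ᵁ ((U i).ι ⁻¹ᵁ V)) where
  toFun x := x
  invFun x := x
  map_add' _ _ := rfl
  map_smul' a x := by
    let W := (U i).ι ''ᵁ ((U i).ι ⁻¹ᵁ V)
    show (((U i).ι.appIso ((U i).ι ⁻¹ᵁ V)).inv ((U i).ι.app V (BCCoh.psiR f V a))) • (show Γ(F, W) from x) =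
      (show Γ(X, W) from BCCoh.psiR f W a) • (show Γ(F, W) from x)
    congr 1
    have h1 := ConcreteCategory.congr_hom ((U i).ι.app_appIso_inv V) (BCCoh.psiR f V a)
    exact h1.trans (Coh.resTop_comp (X := X) (op V) (op W)
      (homOfLE (Set.image_preimage_subset (U i).ι.base V.1)).op (Coh.toGlobal f a))
  left_inv _ := rfl
  right_inv _ := rfl

theorem pieceEquiv_unit (F : X.Modules) (i : ι) (V : X.Opens) :
    (pieceEquiv f U F i V).toLinearMap.comp
        (BCCoh.appA f ((Scheme.Modules.restrictAdjunction (U i).ι).unit.app F) V) =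
      BCCoh.resA f F ((U i).ι.image_preimage_le V) := LinearMap.ext fun _ => rfl

include f hU in
theorem isQCoh_cechG (F : X.Modules) (hF : Coh.IsQCoh F) : Coh.IsQCoh ((cechG U).obj F) := by
  haveI : F.IsQuasicoherent := hF
  haveI : IsAffineHom (pullback.diagonal (terminal.from X)) := AffDiag22.affineDiag_terminal f
  have hq : ∀ i, ((CechOX.pushRestr (U i)).obj F).IsQuasicoherent := fun i => by
    have : IsAffine (U i : Scheme.{u}) := hU i
    haveI := AffDiag22.isAffineHom_of_isAffine_source (U i).ι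
    exact QCoh.isQuasicoherent_pushforward (U i).ι ((Scheme.Modules.restrictFunctor (U i).ι).obj F)
  let g := fun i => (CechOX.pushRestr (U i)).obj F
  haveI : HasFiniteBiproducts X.Modules := Abelian.hasFiniteBiproducts
  haveI := QCoh.isQuasicoherent_colimit (Discrete.functor g) (fun a => hq a.as)
  exact QCoh.isQuasicoherent_of_iso (M := ∐ g) ((biproduct.isoCoproduct g).symm ≪≫ biproduct.isoProduct g)

include f hU in
theorem vanish_cechG (F : X.Modules) (hF : Coh.IsQCoh F) :
    Cohom.VanishFrom (Coh.toAb ((cechG U).obj F)) ⊤ 1 := by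
  haveI : F.IsQuasicoherent := hF
  obtain ⟨j, hj⟩ := cechG_total U F
  refine vanishFrom_of_biproduct _ _ _ j hj ⊤ 1 fun i n hn => ?_
  obtain ⟨m, rfl⟩ := Nat.exists_eq_succ_of_ne_zero (by omega : n ≠ 0)
  haveI : IsAffine (U i : Scheme.{u}) := hU i
  haveI : IsAffineHom (pullback.diagonal (terminal.from X)) := AffDiag22.affineDiag_terminal f
  haveI : IsAffineHom ((U i).ι ≫ f) := inferInstance
  haveI : IsAffineHom (U i).ι := AffDiag22.isAffineHom_of_isAffine_source (U i).ι
  exact Cohom.acyclicOn_pushforward (U i).ι f ((Scheme.Modules.restrictFunctor (U i).ι).obj F) ⊤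
    (isAffineOpen_top _) m

include hU in
theorem affFlat_cechG (F : X.Modules) (h : AffFlat f F) : AffFlat f ((cechG U).obj F) := fun V hV => by
  obtain ⟨j, hj⟩ := cechG_total U F
  haveI : ∀ i, Module.Flat A (BCCoh.secA f ((CechOX.pushRestr (U i)).obj F) V) := fun i =>
    haveI := h _ (isAffineOpen_inter f U hU i hV)
    Module.Flat.of_linearEquiv (pieceEquiv f U F i V)
  haveI : Module.Flat A (∀ i, BCCoh.secA f ((CechOX.pushRestr (U i)).obj F) V) := Rigidity.flat_pi _
  refine Module.Flat.of_retract (LinearMap.pi fun i => BCCoh.appA f (Pi.π _ i) V)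
    (∑ i, (BCCoh.appA f (j i) V).comp (LinearMap.proj i)) ?_
  have hs : ∀ (s : Finset ι), BCCoh.appA f (∑ i ∈ s, Pi.π _ i ≫ j i) V =
      ∑ i ∈ s, BCCoh.appA f (Pi.π (fun i => (CechOX.pushRestr (U i)).obj F) i ≫ j i) V := fun s => by
    classical
    induction s using Finset.induction_on with
    | empty => rfl
    | insert i s hi ih => rw [Finset.sum_insert hi, Finset.sum_insert hi, appA_add, ih]
  have h0 := (hs Finset.univ).symm.trans ((congrArg (fun a => BCCoh.appA f a V) hj).trans (appA_id f V))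
  refine Eq.trans ?_ h0
  refine (sum_comp' (fun i => (BCCoh.appA f (j i) V).comp (LinearMap.proj i)) _).trans ?_
  exact Finset.sum_congr rfl fun i _ => rfl

include hU in
/-- The restriction maps are universally injective on sections. -/
theorem rTensor_injective_cechη (hcov : ⨆ i, U i = ⊤) (F : X.Modules) (hF : Coh.IsQCoh F) {V : X.Opens}
    (hV : IsAffineOpen V) (M : Type u) [AddCommGroup M] [Module A M] :
    Function.Injective ((BCCoh.appA f ((cechη U).app F) V).rTensor M) := by
  haveI : F.IsQuasicoherent := hF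
  let M' := ModuleCat.of A M
  rw [injective_iff_map_eq_zero]
  intro z hz
  apply (BCCoh.bijective_secT f F M' hV).1
  rw [map_zero]
  refine TopCat.Sheaf.eq_of_locally_eq' ⟨((BCCoh.TF f F).obj M').presheaf, ((BCCoh.TF f F).obj M').isSheaf⟩
    (fun i : ι => (U i).ι ''ᵁ ((U i).ι ⁻¹ᵁ V)) V (fun i => homOfLE ((U i).ι.image_preimage_le V)) ?_
    (BCCoh.secT f F M' V z) 0 fun i => ?_
  · intro x hx
    obtain ⟨i, hi⟩ := Opens.mem_iSup.1 (hcov.symm ▸ Opens.mem_top x : x ∈ ⨆ i, U i)
    exact Opens.mem_iSup.2 ⟨i, by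
      rw [Scheme.Hom.image_preimage_eq_opensRange_inf, Scheme.Opens.opensRange_ι]
      exact ⟨hi, hx⟩⟩
  · refine Eq.trans ?_ (map_zero _).symm
    refine (BCCoh.secT_res f F M' ((U i).ι.image_preimage_le V) z).trans ?_
    have e : BCCoh.resA f F ((U i).ι.image_preimage_le V) =
        ((pieceEquiv f U F i V).toLinearMap.comp (BCCoh.appA f (Pi.π _ i) V)).comp
          (BCCoh.appA f ((cechη U).app F) V) := by
      refine (pieceEquiv_unit f U F i V).symm.trans ?_
      rw [LinearMap.comp_assoc]
      exact congrArg _ ((congrArg (fun a => BCCoh.appA f a V) (cechη_π U F i).symm).trans (appA_comp f _ _ V))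
    rw [e, LinearMap.rTensor_comp, LinearMap.comp_apply, hz, map_zero, map_zero]
    rfl

include hU in
theorem affFlat_coker (hcov : ⨆ i, U i = ⊤) (F : X.Modules) (hF : Coh.IsQCoh F) (h : AffFlat f F) :
    AffFlat f (cokernel ((cechη U).app F)) := fun V hV => by
  haveI : F.IsQuasicoherent := hF
  haveI := mono_cechη U hcov F
  let S := ShortComplex.mk _ _ (cokernel.condition ((cechη U).app F))
  have hS : S.ShortExact :=
    { exact := ShortComplex.exact_of_g_is_cokernel _ (cokernelIsCokernel _)
      mono_f := inferInstanceAs (Mono ((cechη U).app F))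
      epi_g := inferInstanceAs (Epi (cokernel.π _)) }
  haveI : S.X₁.IsQuasicoherent := ‹F.IsQuasicoherent›
  haveI := affFlat_cechG f U hU F h V hV
  refine flat_of_univ_injective (BCCoh.appA f S.f V) (BCCoh.appA f S.g V) (fun b => ⟨fun hb => ?_, ?_⟩)
    (QCoh.app_surjective_of_isAffineOpen hS hV) fun M _ _ => rTensor_injective_cechη f U hU hcov F hF hV M
  · obtain ⟨a, ha⟩ := QCoh.app_exact hS V b hb
    exact ⟨a, ha⟩
  · rintro ⟨a, rfl⟩
    exact QCoh.app_comp_zero (S := S) V a

/-- The step given by a finite affine cover. `q` switches on flatness over the base. -/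
noncomputable def cechStep (hcov : ⨆ i, U i = ⊤) (q : Prop) : Step X.Modules where
  G := cechG U
  additive := inferInstance
  η := cechη U
  P F := Coh.IsQCoh F ∧ (q → AffFlat f F)
  Van k F := Cohom.VanishFrom (Coh.toAb F) ⊤ (k + 1)
  mono F _ := mono_cechη U hcov F
  P_G F h := ⟨isQCoh_cechG f U hU F h.1, fun hq => affFlat_cechG f U hU F (h.2 hq)⟩
  P_coker F h := by
    haveI : F.IsQuasicoherent := h.1
    haveI : ((𝟭 X.Modules).obj F).IsQuasicoherent := h.1
    haveI : ((cechG U).obj F).IsQuasicoherent := isQCoh_cechG f U hU F h.1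
    exact ⟨QCoh.isQuasicoherent_cokernel _, fun hq => affFlat_coker f U hU hcov F h.1 (h.2 hq)⟩
  van_G F h := vanish_cechG f U hU F h.1
  van_coker F k h hv := by
    haveI := mono_cechη U hcov F
    exact vanishFrom_coker (S := ShortComplex.mk _ _ (cokernel.condition ((cechη U).app F)))
      { exact := ShortComplex.exact_of_g_is_cokernel _ (cokernelIsCokernel _)
        mono_f := inferInstanceAs (Mono ((cechη U).app F))
        epi_g := inferInstanceAs (Epi (cokernel.π _)) } hv (vanish_cechG f U hU F h.1)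
  P_biprod {F G H} e hF hG := by
    refine ⟨?_, fun hq => affFlat_biprod f e (hF.2 hq) (hG.2 hq)⟩
    haveI : F.IsQuasicoherent := hF.1
    haveI : G.IsQuasicoherent := hG.1
    let S := ShortComplex.mk (biprod.inl : F ⟶ F ⊞ G) biprod.snd biprod.inl_snd
    have hS : S.ShortExact :=
      (ShortComplex.Splitting.mk (S := S) biprod.fst biprod.inr (by simp [S]) (by simp [S]) (by simp [S])).shortExact
    haveI : S.X₁.IsQuasicoherent := hF.1
    haveI : S.X₃.IsQuasicoherent := hG.1
    haveI : (F ⊞ G).IsQuasicoherent := QCoh.isQuasicoherent_X₂ hS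
    exact QCoh.isQuasicoherent_of_iso e.symm
  van_biprod {F G H} e _ _ hF hG := by
    refine vanishFrom_of_biproduct (ι := Fin 2) (fun i => match i with | 0 => F | 1 => G) H
      (fun i => match i with
        | 0 => e.hom ≫ biprod.fst
        | 1 => e.hom ≫ biprod.snd)
      (fun i => match i with
        | 0 => biprod.inl ≫ e.inv
        | 1 => biprod.inr ≫ e.inv) ?_ ⊤ 1 fun i => ?_
    · rw [Fin.sum_univ_two]
      show (e.hom ≫ biprod.fst) ≫ biprod.inl ≫ e.inv + (e.hom ≫ biprod.snd) ≫ biprod.inr ≫ e.inv = 𝟙 H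
      simp only [Category.assoc, ← Preadditive.comp_add]
      rw [← Category.assoc biprod.fst, ← Category.assoc biprod.snd, ← Preadditive.add_comp, biprod.total]
      simp
    · fin_cases i <;> assumption

end Affine

end GrothLib.BCAcyc22
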