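import Groth.Agent.Lib.AffDiag22.Basic
import Groth.Agent.Lib.BCAcyc22.CechStep
import Groth.Agent.Lib.BCCoh.BaseChange
import Groth.Agent.Lib.BCCoh.FlatHomology
import Mathlib.RingTheory.Flat.Equalizer

/-! # Base change of flat modules without higher cohomology -/

set_option autoImplicit false
set_option maxHeartbeats 800000
universe u

open CategoryTheory CategoryTheory.Limits AlgebraicGeometry Opposite TopologicalSpace TensorProduct

namespace GrothLib.BCAcyc22

section Algebra

variable {A : Type u} [CommRing A] {P Q R : Type u} [AddCommGroup P] [Module A P] [AddCommGroup Q] [Module A Q]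
  [AddCommGroup R] [Module A R]

theorem flat_ker_of_flat [Module.Flat A Q] [Module.Flat A R] (e : Q →ₗ[A] R) (he : Function.Surjective e) :
    Module.Flat A (LinearMap.ker e) := by
  rw [Module.Flat.iff_lTensor_preserves_injective_linearMap]
  intro N M _ _ _ _ n hn
  have h1 := LinearMap.lTensor_injective_of_exact_of_flat e he _ (LinearMap.ker e).injective_subtype
    (LinearMap.exact_subtype_ker_map _) N
  have h1' : Function.Injective ((LinearMap.ker e).subtype.rTensor N) :=
    (LinearMap.lTensor_inj_iff_rTensor_inj N _).1 h1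
  have h2 : Function.Injective ((n.lTensor Q).comp ((LinearMap.ker e).subtype.rTensor N)) :=
    (Module.Flat.lTensor_preserves_injective_linearMap (M := Q) n hn).comp h1'
  rw [LinearMap.lTensor_comp_rTensor, ← LinearMap.rTensor_comp_lTensor] at h2
  exact Function.Injective.of_comp h2

/-- An exact pair stays exact after tensoring when the last cokernel is flat. -/
theorem exact_lTensor_of_flat_coker (d : P →ₗ[A] Q) (e : Q →ₗ[A] R) (h : Function.Exact d e)
    [Module.Flat A (R ⧸ LinearMap.range e)] (B : Type u) [AddCommGroup B] [Module A B] :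
    Function.Exact (d.lTensor B) (e.lTensor B) := by
  have hi : Function.Injective ((LinearMap.range e).subtype.lTensor B) :=
    LinearMap.lTensor_injective_of_exact_of_flat (LinearMap.range e).mkQ (Submodule.mkQ_surjective _) _
      (LinearMap.range e).injective_subtype (LinearMap.exact_subtype_mkQ _) B
  have hr : Function.Exact (d.lTensor B) (e.rangeRestrict.lTensor B) :=
    lTensor_exact B (by
      intro x
      rw [← h x]
      exact ⟨fun hx => congrArg Subtype.val hx, fun hx => Subtype.ext hx⟩) e.surjective_rangeRestrict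
  have he : e.lTensor B = ((LinearMap.range e).subtype.lTensor B).comp (e.rangeRestrict.lTensor B) := by
    rw [← LinearMap.lTensor_comp]
    rfl
  intro x
  rw [← hr x, he, LinearMap.comp_apply]
  exact ⟨fun hx => hi (hx.trans (map_zero _).symm), fun hx => by rw [hx, map_zero]⟩

/-- The first map of an exact pair with flat last cokernel is universally injective. -/
theorem lTensor_injective_of_flat_coker (d : P →ₗ[A] Q) (e : Q →ₗ[A] R) (hd : Function.Injective d)
    (h : Function.Exact d e) [Module.Flat A R] [Module.Flat A (R ⧸ LinearMap.range e)] (B : Type u)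
    [AddCommGroup B] [Module A B] : Function.Injective (d.lTensor B) := by
  haveI : Module.Flat A (LinearMap.range e) :=
    haveI := flat_ker_of_flat (LinearMap.range e).mkQ (Submodule.mkQ_surjective _)
    Module.Flat.of_linearEquiv (LinearEquiv.ofEq _ _ (LinearMap.range e).ker_mkQ.symm)
  exact LinearMap.lTensor_injective_of_exact_of_flat e.rangeRestrict e.surjective_rangeRestrict d hd (fun x => by
    rw [← h x]
    exact ⟨fun hx => congrArg Subtype.val hx, fun hx => Subtype.ext hx⟩) B

end Algebra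

section Cech

variable {A : Type u} [CommRing A] {X : Scheme.{u}} (f : X ⟶ Spec (CommRingCat.of A)) {ι : Type u} [Finite ι]
  (U : ι → X.Opens) (F : X.Modules) [F.IsQuasicoherent]

theorem flat_cx_of_affFlat (hfl : AffFlat f F)
    (haff : ∀ (n : ℕ) (a : Fin (n + 1) → ι), IsAffineOpen (⨅ k, U (a k))) (n : ℕ) :
    Module.Flat A ((BCCoh.cx f U F).X n) := by
  haveI := Fintype.ofFinite (Fin (n + 1) → ι)
  haveI : ∀ a : Fin (n + 1) → ι, Module.Flat A (BCCoh.secA f F (BCCoh.W U a)) :=
    fun a => hfl _ (BCCoh.isAffineOpen_W U haff a)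
  exact Rigidity.flat_pi _

theorem flat_cxZ_of_affFlat (hfl : AffFlat f F)
    (haff : ∀ (n : ℕ) (a : Fin (n + 1) → ι), IsAffineOpen (⨅ k, U (a k))) (i : ℤ) :
    Module.Flat A ((BCCoh.cxZ f U F).X i) := by
  by_cases h : ∃ n : ℕ, ComplexShape.embeddingUpNat.f n = i
  · obtain ⟨n, hn⟩ := h
    haveI := flat_cx_of_affFlat f U F hfl haff n
    exact Module.Flat.of_linearEquiv ((BCCoh.cx f U F).extendXIso ComplexShape.embeddingUpNat hn).toLinearEquiv
  · haveI : Subsingleton ((BCCoh.cxZ f U F).X i) := ModuleCat.subsingleton_of_isZero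
      ((BCCoh.cx f U F).isZero_extend_X _ i fun n hn => h ⟨n, hn⟩)
    infer_instance

theorem subsingleton_homology_cx (hcov : iSup U = ⊤)
    (haff : ∀ (n : ℕ) (a : Fin (n + 1) → ι), IsAffineOpen (⨅ k, U (a k)))
    (hv : Cohom.VanishFrom (Coh.toAb F) ⊤ 1) (p : ℕ) (hp : 1 ≤ p) :
    Subsingleton ((BCCoh.cx f U F).homology p) := by
  obtain ⟨e, -, -⟩ := BCCoh.exists_linearEquiv f U hcov haff p
  haveI := hv.subsingleton_HH (n := p) hp
  exact (e F inferInstance).toEquiv.symm.subsingleton

theorem exact_cx (hcov : iSup U = ⊤) (haff : ∀ (n : ℕ) (a : Fin (n + 1) → ι), IsAffineOpen (⨅ k, U (a k)))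
    (hv : Cohom.VanishFrom (Coh.toAb F) ⊤ 1) (n : ℕ) :
    Function.Exact ((BCCoh.cx f U F).d n (n + 1)).hom ((BCCoh.cx f U F).d (n + 1) (n + 2)).hom := by
  haveI := subsingleton_homology_cx f U F hcov haff hv (n + 1) (by omega)
  have h : (BCCoh.cx f U F).ExactAt (n + 1) :=
    (HomologicalComplex.exactAt_iff_isZero_homology _ _).2 (ModuleCat.isZero_of_subsingleton _)
  rw [HomologicalComplex.exactAt_iff' _ n (n + 1) (n + 2) (by simp) (by simp),
    ShortComplex.ShortExact.moduleCat_exact_iff_function_exact] at h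
  exact h

theorem flat_coker_cx [QuasiCompact f] [IsAffineHom (pullback.diagonal f)] (hcov : iSup U = ⊤)
    (haff : ∀ (n : ℕ) (a : Fin (n + 1) → ι), IsAffineOpen (⨅ k, U (a k))) (hfl : AffFlat f F)
    (hv : Cohom.VanishFrom (Coh.toAb F) ⊤ 1) (n : ℕ) :
    Module.Flat A ((BCCoh.cx f U F).X (n + 1) ⧸ LinearMap.range ((BCCoh.cx f U F).d n (n + 1)).hom) := by
  haveI : CompactSpace X := QuasiCompact.compactSpace_of_compactSpace f
  haveI := AffDiag22.quasiSeparatedSpace_of_affineDiag f
  obtain ⟨d, hd⟩ := Cohom.exists_vanishFrom_of_isCompact (X := X) (V := ⊤) (by simpa using isCompact_univ)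
  let K := BCCoh.cxZ f U F
  haveI := flat_cxZ_of_affFlat f U F hfl haff
  have high : ∀ (M : ModuleCat.{u} A) (i : ℤ), (d : ℤ) ≤ i → IsZero (CohIII.T K i M) := by
    intro M i hi
    obtain ⟨p, rfl⟩ := Int.eq_ofNat_of_zero_le (le_trans (Int.natCast_nonneg d) hi)
    obtain ⟨e, -, -⟩ := BCCoh.exists_linearEquiv f U hcov haff p
    haveI := BCCoh.isQuasicoherent_TF f F M
    haveI := (hd ((BCCoh.TF f F).obj M)).subsingleton_HH (n := p) (by omega)
    haveI : Subsingleton ((BCCoh.cx f U ((BCCoh.TF f F).obj M)).homology p) :=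
      (e ((BCCoh.TF f F).obj M) inferInstance).toEquiv.symm.subsingleton
    exact (ModuleCat.isZero_of_subsingleton _).of_iso (BCCoh.tensorHIso f F U haff p M)
  have hH : ∀ i, (1 : ℤ) ≤ i → Module.Flat A (K.homology i) := by
    intro i hi
    obtain ⟨p, rfl⟩ := Int.eq_ofNat_of_zero_le (by omega : (0 : ℤ) ≤ i)
    haveI := subsingleton_homology_cx f U F hcov haff hv p (by omega)
    haveI : Subsingleton (K.homology (p : ℤ)) :=
      ((BCCoh.cx f U F).extendHomologyIso ComplexShape.embeddingUpNat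
        (show ComplexShape.embeddingUpNat.f p = (p : ℤ) from rfl)).toLinearEquiv.toEquiv.subsingleton
    infer_instance
  have h := BCCoh.flat_coker_of_flat_homology_ge K d 1 high hH ((n + 1 : ℕ) : ℤ) (by push_cast; omega)
  rw [(ComplexShape.up ℤ).prev_eq' (show (ComplexShape.up ℤ).Rel (n : ℤ) ((n + 1 : ℕ) : ℤ) by simp)] at h
  let e₁ := ((BCCoh.cx f U F).extendXIso ComplexShape.embeddingUpNat
    (show ComplexShape.embeddingUpNat.f (n + 1) = ((n + 1 : ℕ) : ℤ) from rfl))
  haveI := h
  refine Module.Flat.of_linearEquiv (Submodule.Quotient.equiv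
    (LinearMap.range ((BCCoh.cxZ f U F).d (n : ℤ) ((n + 1 : ℕ) : ℤ)).hom)
    (LinearMap.range ((BCCoh.cx f U F).d n (n + 1)).hom) e₁.toLinearEquiv ?_).symm
  let e₀ := ((BCCoh.cx f U F).extendXIso ComplexShape.embeddingUpNat
    (show ComplexShape.embeddingUpNat.f n = (n : ℤ) from rfl))
  have hd' : (BCCoh.cxZ f U F).d (n : ℤ) ((n + 1 : ℕ) : ℤ) ≫ e₁.hom = e₀.hom ≫ (BCCoh.cx f U F).d n (n + 1) := by
    rw [(BCCoh.cx f U F).extend_d_eq ComplexShape.embeddingUpNat
      (show ComplexShape.embeddingUpNat.f n = (n : ℤ) from rfl)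
      (show ComplexShape.embeddingUpNat.f (n + 1) = ((n + 1 : ℕ) : ℤ) from rfl)]
    simp [e₁, e₀]
  apply le_antisymm
  · rintro x ⟨y, ⟨z, rfl⟩, rfl⟩
    exact ⟨e₀.hom z, (ConcreteCategory.congr_hom hd' z).symm⟩
  · rintro x ⟨z, rfl⟩
    refine ⟨_, ⟨e₀.inv z, rfl⟩, ?_⟩
    refine (ConcreteCategory.congr_hom hd' (e₀.inv z)).trans ?_
    exact congrArg ((BCCoh.cx f U F).d n (n + 1)) (ConcreteCategory.congr_hom e₀.inv_hom_id z)

end Cech

end GrothLib.BCAcyc22
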