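import Groth.Agent.Lib.BCCoh.FiniteFree

/-! # Free resolutions of bounded above complexes -/

set_option autoImplicit false
universe u

open CategoryTheory CategoryTheory.Limits DerivedCategory CochainComplex

namespace GrothLib.BCAcyc22

variable {A : Type u} [CommRing A]

/-- Free modules. -/
def freeP : ObjectProperty (ModuleCat.{u} A) := fun M => Module.Free A M

instance : (freeP (A := A)).IsClosedUnderIsomorphisms :=
  ⟨fun {_ _} e h => Module.Free.of_equiv' h e.toLinearEquiv⟩

theorem freeP_of_isZero {M : ModuleCat.{u} A} (h : IsZero M) : freeP M := by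
  haveI : Subsingleton M := ModuleCat.subsingleton_of_isZero h
  exact Module.Free.of_subsingleton A M

instance : (freeP (A := A)).ContainsZero :=
  ⟨⟨ModuleCat.of A PUnit.{u+1}, ModuleCat.isZero_of_subsingleton _,
    freeP_of_isZero (ModuleCat.isZero_of_subsingleton _)⟩⟩

theorem freeP_prod (X Y : ModuleCat.{u} A) (hX : freeP X) (hY : freeP Y) : freeP (X ⨯ Y) := by
  haveI : Module.Free A X := hX
  haveI : Module.Free A Y := hY
  exact freeP.prop_of_iso ((ModuleCat.biprodIsoProd X Y).symm ≪≫ biprod.isoProd X Y)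
    (inferInstanceAs (Module.Free A (X × Y)))

theorem isQuasiLiftable_freeP : PCoh.IsQuasiLiftable (freeP (A := A)) := by
  intro E F u hu hF
  haveI : Module.Free A F := hF
  haveI : Module.Projective A F := Module.Projective.of_free
  haveI : Projective F := (IsProjective.iff_projective (R := A) F).1 ‹_›
  refine ⟨F, Projective.factorThru (𝟙 F) u, hF, ?_⟩
  rw [Projective.factorThru_comp]
  infer_instance

theorem exists_freeP_epi (M : ModuleCat.{u} A) : PCoh.IsOfFiniteType freeP M :=
  ⟨ModuleCat.of A (M →₀ A), ModuleCat.ofHom (Finsupp.linearCombination A id),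
    inferInstanceAs (Module.Free A (M →₀ A)),
    (ModuleCat.epi_iff_surjective _).2 fun m => ⟨Finsupp.single m 1, by simp⟩⟩

/-- A bounded above complex has a free resolution with the same bound. -/
theorem exists_free_resolution (K : CochainComplex (ModuleCat.{u} A) ℤ) (b : ℤ)
    (hb : ∀ i, b ≤ i → IsZero (K.X i)) :
    ∃ (L : CochainComplex (ModuleCat.{u} A) ℤ) (u : L ⟶ K),
      (∀ i, Module.Free A (L.X i)) ∧ (∀ i, b ≤ i → IsZero (L.X i)) ∧ QuasiIso u := by
  letI : HasDerivedCategory.{u + 1} (ModuleCat.{u} A) := HasDerivedCategory.standard _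
  have hcoh : ∀ (X E : ModuleCat.{u} A) (g : E ⟶ X), freeP X → freeP E →
      PCoh.IsOfFiniteType freeP (kernel g) := fun _ _ g _ _ => exists_freeP_epi _
  have hh : ∀ i, b ≤ i → IsZero ((homologyFunctor (ModuleCat.{u} A) i).obj (Q.obj K)) := fun i hi =>
    ((HomologicalComplex.exactAt_iff_isZero_homology _ _).1 (HomologicalComplex.ExactAt.of_isZero (hb i hi))).of_iso
      ((homologyFunctorFactors _ i).app K)
  have hF : ∀ m, PC.PCn freeP m (Q.obj K) := fun m =>
    (PC.pcn_iff_coherent_homology freeP freeP_prod isQuasiLiftable_freeP hcoh (fun i hi => hh i hi.le)).2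
      ⟨exists_freeP_epi _, fun i _ => ⟨exists_freeP_epi _, fun _ g _ => exists_freeP_epi _⟩⟩
  obtain ⟨L, u, hL, hu, hz⟩ := PC.exists_strictAll_resolution freeP freeP_prod
    (PC.isQuasiStable_of_coherent freeP hcoh) isQuasiLiftable_freeP hF b hh
  exact ⟨L, u, hL.2, hz, hu⟩

end GrothLib.BCAcyc22
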