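import Groth.Agent.Lib.BCAcyc22.CechStep
import Groth.Agent.Lib.BCAcyc22.FreeRes

/-! # Complexes computing `RΓ` of complexes of quasi-coherent modules -/

set_option autoImplicit false
set_option maxHeartbeats 800000
universe u

open CategoryTheory CategoryTheory.Limits AlgebraicGeometry

attribute [local instance] HasDerivedCategory.standard

namespace GrothLib.BCAcyc22

variable {A : Type u} [CommRing A] {X : Scheme.{u}} (f : X ⟶ Spec (CommRingCat.of A))
  [QuasiCompact f] [IsAffineHom (pullback.diagonal f)]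

theorem vanishFrom_top_of_cover {t : ℕ} (U : Fin t → X.Opens) (hU : ∀ i, IsAffineOpen (U i))
    (hcov : ⨆ i, U i = ⊤) (F : X.Modules) (hF : Coh.IsQCoh F) (f' : X ⟶ Spec (CommRingCat.of A)) [IsAffineHom (pullback.diagonal f')] :
    Cohom.VanishFrom (Coh.toAb F) ⊤ t := by
  haveI : F.IsQuasicoherent := hF
  haveI : IsAffineHom (pullback.diagonal (terminal.from X)) := AffDiag22.affineDiag_terminal f'
  rw [← hcov]
  exact Cohom.vanishFrom_iSup F IsAffineOpen (fun _ h => h) (fun V W hV hW => hV.inf hW) t U hU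

/-- **A Čech-type resolution.** -/
theorem exists_acyclic (N : ℕ) (U : Fin (N + 1) → X.Opens) (hU : ∀ i, IsAffineOpen (U i)) (hcov : ⨆ i, U i = ⊤)
    (q : Prop) (P : CochainComplex X.Modules ℤ) (hq : ∀ i, Coh.IsQCoh (P.X i)) (hfl : q → ∀ i, AffFlat f (P.X i))
    {D : Type (u + 1)} [Category.{u} D] [Abelian D] :
    ∃ (s : Step X.Modules) (T : CochainComplex X.Modules ℤ) (v : P ⟶ T),
      (∀ F, s.P F ↔ Coh.IsQCoh F ∧ (q → AffFlat f F)) ∧
      (∀ n, Coh.IsQCoh (T.X n) ∧ (q → AffFlat f (T.X n)) ∧ Cohom.VanishFrom (Coh.toAb (T.X n)) ⊤ 1) ∧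
      (∀ a : ℤ, (∀ i, i < a → IsZero (P.X i)) → ∀ i, i < a → IsZero (T.X i)) ∧
      (∀ b : ℤ, (∀ i, b < i → IsZero (P.X i)) → ∀ i, b + N < i → IsZero (T.X i)) ∧
      QuasiIso v ∧
      ∀ (Φ : X.Modules ⥤ D) [Φ.Additive],
        (∀ F, s.P F → ((ShortComplex.mk (s.η.app F) (s.π.app F) (s.η_π F)).map Φ).ShortExact) →
        QuasiIso ((Φ.mapHomologicalComplex (ComplexShape.up ℤ)).map v) := by
  let U' : ULift.{u} (Fin (N + 1)) → X.Opens := fun i => U i.down
  have hcov' : ⨆ i, U' i = ⊤ := by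
    rw [← hcov]
    exact Equiv.ulift.iSup_comp (g := U)
  let s := cechStep f U' (fun i => hU i.down) hcov' q
  obtain ⟨T, v, hT, hlo, hhi, hv, hΦ⟩ := s.exists_resolution (D := D) N P
    (fun n => ⟨hq n, fun h => hfl h n⟩) (fun n => vanishFrom_top_of_cover U hU hcov _ (hq n) f)
  exact ⟨s, T, v, fun F => Iff.rfl, fun n => ⟨(hT n).1.1, (hT n).1.2, (hT n).2⟩, hlo, hhi, hv, hΦ⟩

/-- `RΓ` is represented by the sections of an acyclic resolution. -/
theorem exists_computes [HTor.HasRΓA f] (N : ℕ) (U : Fin (N + 1) → X.Opens) (hU : ∀ i, IsAffineOpen (U i))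
    (hcov : ⨆ i, U i = ⊤) (P : CochainComplex X.Modules ℤ) (hq : ∀ i, Coh.IsQCoh (P.X i)) :
    ∃ L : DRing.Cx A, HTor.Computes f L (DCoh.toD X P) ∧
      (∀ a : ℤ, (∀ i, i < a → IsZero (P.X i)) → ∀ i, i < a → IsZero (L.X i)) ∧
      (∀ b : ℤ, (∀ i, b < i → IsZero (P.X i)) → ∀ i, b + N < i → IsZero (L.X i)) := by
  obtain ⟨s, T, v, -, hT, hlo, hhi, hv, -⟩ := exists_acyclic f N U hU hcov False P hq (fun h => h.elim)
    (D := X.Modules)
  haveI := AffDiag22.quasiSeparated_of_affineDiag f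
  obtain ⟨e⟩ := computes f T (fun n => (hT n).1) (fun n => (hT n).2.2)
  haveI := hv
  exact ⟨_, ⟨e ≪≫ (HTor.RΓA f).mapIso (asIso (DerivedCategory.Q.map v)).symm⟩,
    fun a ha i hi => (HTor.globalSectionsA f).map_isZero (hlo a ha i hi),
    fun b hb i hi => (HTor.globalSectionsA f).map_isZero (hhi b hb i hi)⟩

end GrothLib.BCAcyc22
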