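import Mathlib.Algebra.Homology.DerivedCategory.Basic
import Mathlib.Algebra.Homology.Embedding.CochainComplex
import Mathlib.CategoryTheory.Abelian.Projective.Dimension

/-! # Truncating complexes of projectives when every object has bounded projective dimension -/

set_option autoImplicit false
universe w w' v u

open CategoryTheory CategoryTheory.Limits HomologicalComplex

namespace GrothLib.BCAcyc22

variable {C : Type u} [Category.{v} C] [Abelian C] [HasExt.{w} C]

theorem shortExact_opcycles (L : CochainComplex C ℤ) (i j : ℤ) (hij : i + 1 = j) (he : L.ExactAt i) :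
    (ShortComplex.mk (L.fromOpcycles i j) (L.pOpcycles j)
      (by rw [← cancel_epi (L.pOpcycles i), p_fromOpcycles_assoc, d_pOpcycles, comp_zero])).ShortExact := by
  have hm : Mono (L.fromOpcycles i j) := by
    have h : (L.sc i).Exact := he
    have : Mono (L.sc i).fromOpcycles := (ShortComplex.exact_iff_mono_fromOpcycles _).1 h
    have e : j = (ComplexShape.up ℤ).next i := by simp [hij]
    subst e
    exact this
  refine { exact := ?_, mono_f := hm, epi_g := inferInstanceAs (Epi (L.pOpcycles j)) }
  refine ShortComplex.exact_of_g_is_cokernel _ (CokernelCofork.IsColimit.ofπ _ _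
    (fun {Z} k hk => L.descOpcycles k i (by simp [← hij]) (by
      rw [← L.p_fromOpcycles i j, Category.assoc, show L.fromOpcycles i j ≫ k = 0 from hk, comp_zero]))
    (fun {Z} k hk => L.p_descOpcycles k i _ _) fun {Z} k hk m hm => ?_)
  rw [← cancel_epi (L.pOpcycles j)]
  exact hm.trans (L.p_descOpcycles k i _ _).symm

theorem hasProjectiveDimensionLT_opcycles (L : CochainComplex C ℤ) (hL : ∀ i, Projective (L.X i)) (d : ℕ)
    (hd : ∀ M : C, HasProjectiveDimensionLT M (d + 1)) (a : ℤ) (ha : ∀ i, i < a → L.ExactAt i) :
    ∀ k : ℕ, HasProjectiveDimensionLT (L.opcycles (a - k)) (d - k + 1) := by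
  intro k
  induction k with
  | zero => exact hd _
  | succ k ih =>
    by_cases hk : k < d
    · have hS := shortExact_opcycles L (a - (k + 1 : ℕ)) (a - k) (by push_cast; omega) (ha _ (by push_cast; omega))
      have h3 : HasProjectiveDimensionLT (L.opcycles (a - k)) (d - (k + 1) + 2) := by
        rwa [show d - (k + 1) + 2 = d - k + 1 by omega]
      exact (hS.hasProjectiveDimensionLT_X₃_iff (d - (k + 1)) (hL _)).1 h3
    · have hS := shortExact_opcycles L (a - (k + 1 : ℕ)) (a - k) (by push_cast; omega) (ha _ (by push_cast; omega))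
      have h2 : HasProjectiveDimensionLT (L.X (a - k)) 1 := by
        have := hL (a - k)
        infer_instance
      have h3 : HasProjectiveDimensionLT (L.opcycles (a - k)) 1 := by
        rwa [show d - k + 1 = 1 by omega] at ih
      have h3' : HasProjectiveDimensionLT (L.opcycles (a - k)) 2 := hasProjectiveDimensionLT_of_ge _ 1 2 (by omega)
      rw [show d - (k + 1) + 1 = 1 by omega]
      exact hS.hasProjectiveDimensionLT_X₁ 1 h2 h3'

/-- **Projective truncation.** -/
theorem exists_projective_truncation [HasDerivedCategory.{w'} C] (L : CochainComplex C ℤ)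
    (hL : ∀ i, Projective (L.X i)) (d : ℕ) (hd : ∀ M : C, HasProjectiveDimensionLT M (d + 1)) (a b : ℤ)
    (ha : ∀ i, i < a → L.ExactAt i) (hb : ∀ i, b < i → IsZero (L.X i)) :
    ∃ M : CochainComplex C ℤ, (∀ i, Projective (M.X i)) ∧ (∀ i, i < a - d ∨ b < i → IsZero (M.X i)) ∧
      Nonempty (DerivedCategory.Q.obj M ≅ DerivedCategory.Q.obj L) := by
  have hGE : L.IsGE (a - d) := (L.isGE_iff _).2 fun i hi => ha i (by omega)
  refine ⟨L.truncGE (a - d), fun i => ?_, fun i hi => ?_,
    ⟨(asIso (DerivedCategory.Q.map (L.πTruncGE (a - d)))).symm⟩⟩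
  · rcases lt_trichotomy i (a - d) with h | h | h
    · exact (CochainComplex.isZero_of_isStrictlyGE (L.truncGE (a - d)) (a - d) i h).projective
    · subst h
      have h1 := hasProjectiveDimensionLT_opcycles L hL d hd a ha d
      rw [show d - d + 1 = 1 by omega] at h1
      exact Projective.of_iso (L.truncGEXIsoOpcycles (a - d)).symm
        (projective_iff_hasProjectiveDimensionLT_one.2 h1)
    · exact Projective.of_iso (L.truncGEXIso (a - d) i h).symm (hL i)
  · rcases hi with h | h
    · exact CochainComplex.isZero_of_isStrictlyGE (L.truncGE (a - d)) (a - d) i h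
    · rcases lt_trichotomy i (a - d) with h' | h' | h'
      · exact CochainComplex.isZero_of_isStrictlyGE (L.truncGE (a - d)) (a - d) i h'
      · subst h'
        refine IsZero.of_iso ?_ (L.truncGEXIsoOpcycles (a - d))
        exact IsZero.of_epi_eq_zero (L.pOpcycles _) ((hb _ h).eq_of_src _ _)
      · exact IsZero.of_iso (hb i h) (L.truncGEXIso (a - d) i h')

end GrothLib.BCAcyc22
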