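import Groth.Agent.Lib.BCAcyc22.Main
import Groth.Agent.Lib.BCAcyc22.BaseChange
import Groth.Agent.Lib.OX.AffineReflect
import Mathlib.Algebra.Homology.DerivedCategory.KProjective

/-! # Base change of `RΓ` for flat complexes -/

set_option autoImplicit false
set_option maxHeartbeats 1000000
universe u

open CategoryTheory CategoryTheory.Limits AlgebraicGeometry Opposite TopologicalSpace TensorProduct

attribute [local instance] HasDerivedCategory.standard

namespace GrothLib.BCAcyc22

variable {A B : Type u} [CommRing A] [CommRing B] (φ : A →+* B) {X X' : Scheme.{u}}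
  (f : X ⟶ Spec (CommRingCat.of A)) (f' : X' ⟶ Spec (CommRingCat.of B)) (g : X' ⟶ X)
  (H : IsPullback g f' f (Spec.map (CommRingCat.ofHom φ)))

theorem pullRes_natural {F G : X.Modules} (a : F ⟶ G) {V : X.Opens} {V' : X'.Opens} (e : V' ≤ g ⁻¹ᵁ V)
    (s : Γ(F, V)) :
    ((Scheme.Modules.pullback g).map a).app V' (BCCoh.pullRes g F V V' e s) =
      BCCoh.pullRes g G V V' e (a.app V s) := by
  have h1 : ((Scheme.Modules.pullback g).map a).app (g ⁻¹ᵁ V) (OX.pullSec g F V s) =
      OX.pullSec g G V (a.app V s) :=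
    congrArg (fun c : F ⟶ (Scheme.Modules.pushforward g).obj ((Scheme.Modules.pullback g).obj G) => c.app V s)
      ((Scheme.Modules.pullbackPushforwardAdjunction g).unit.naturality a).symm
  refine Eq.trans ?_ (congrArg (((Scheme.Modules.pullback g).obj G).presheaf.map (homOfLE e).op) h1)
  exact (ConcreteCategory.congr_hom (CechOX.app_naturality ((Scheme.Modules.pullback g).map a) (homOfLE e).op)
    (show Γ((Scheme.Modules.pullback g).obj F, g ⁻¹ᵁ V) from OX.pullSec g F V s))

include H in
theorem bc_natural {F G : X.Modules} (a : F ⟶ G) (V : X.Opens) (V' : X'.Opens) (e : V' ≤ g ⁻¹ᵁ V) :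
    (ModuleCat.extendScalars φ).map (ConcreteCategory.ofHom (BCCoh.appA f a V)) ≫
        ((ModuleCat.extendRestrictScalarsAdj φ).homEquiv _ _).symm (BCCoh.bcHom φ f f' g H G V V' e) =
      ((ModuleCat.extendRestrictScalarsAdj φ).homEquiv _ _).symm (BCCoh.bcHom φ f f' g H F V V' e) ≫
        (ConcreteCategory.ofHom (BCCoh.appA f' ((Scheme.Modules.pullback g).map a) V') :
          BCCoh.secA f' ((Scheme.Modules.pullback g).obj F) V' ⟶
            BCCoh.secA f' ((Scheme.Modules.pullback g).obj G) V') := by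
  rw [← Adjunction.homEquiv_naturality_left_symm, ← Adjunction.homEquiv_naturality_right_symm]
  exact congrArg _ (ConcreteCategory.hom_ext _ _ fun s => (pullRes_natural g a e s).symm)

include H in
/-- Pullback preserves short exact sequences of quasi-coherent modules with flat cokernel. -/
theorem shortExact_map_pullback (S : ShortComplex X.Modules) (hS : S.ShortExact) (h₁ : Coh.IsQCoh S.X₁)
    (h₂ : Coh.IsQCoh S.X₂) (h₃ : AffFlat f S.X₃) :
    (S.map (Scheme.Modules.pullback g)).ShortExact := by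
  haveI : S.X₁.IsQuasicoherent := h₁
  haveI : S.X₂.IsQuasicoherent := h₂
  haveI := BCCoh.isAffineHom_bc φ f f' g H
  letI : Algebra A B := φ.toAlgebra
  let G := Scheme.Modules.pullback g
  haveI : PreservesFiniteColimits G := inferInstance
  haveI := hS.epi_g
  haveI := hS.mono_f
  have hK : IsZero (kernel (G.map S.f)) := by
    haveI : (G.obj S.X₁).IsQuasicoherent := FittSheaf.isQuasicoherent_pullback g S.X₁
    haveI : (G.obj S.X₂).IsQuasicoherent := FittSheaf.isQuasicoherent_pullback g S.X₂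
    refine OX.isZero_of_affine_cover (QCoh.isQuasicoherent_kernel (G.map S.f))
      (fun V : X.affineOpens => g ⁻¹ᵁ V.1) (fun V => V.2.preimage g) (fun x => ?_) fun V t => ?_
    · obtain ⟨W, hW, hx, -⟩ := exists_isAffineOpen_mem_and_subset (x := g x) (U := ⊤) trivial
      exact ⟨⟨W, hW⟩, hx⟩
    · have h0 : (G.map S.f).app (g ⁻¹ᵁ V.1) ((kernel.ι (G.map S.f)).app (g ⁻¹ᵁ V.1) t) = 0 :=
        congrArg (fun c : kernel (G.map S.f) ⟶ G.obj S.X₂ => c.app (g ⁻¹ᵁ V.1) t) (kernel.condition (G.map S.f))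
      have hι : Function.Injective ((kernel.ι (G.map S.f)).app (g ⁻¹ᵁ V.1)) := by
        exact QCoh.app_injective (S := ShortComplex.mk (kernel.ι (G.map S.f)) _ (cokernel.condition _))
          { exact := ShortComplex.exact_of_g_is_cokernel _ (cokernelIsCokernel _)
            mono_f := inferInstanceAs (Mono (kernel.ι _))
            epi_g := inferInstanceAs (Epi (cokernel.π _)) } _
      haveI := h₃ V.1 V.2
      have hinj : Function.Injective ((BCCoh.appA f S.f V.1).lTensor B) :=
        LinearMap.lTensor_injective_of_exact_of_flat (BCCoh.appA f S.g V.1)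
          (QCoh.app_surjective_of_isAffineOpen hS V.2) (BCCoh.appA f S.f V.1) (QCoh.app_injective hS V.1)
          (fun b => ⟨fun hb => QCoh.app_exact hS V.1 b hb, fun ⟨a, ha⟩ => ha ▸ QCoh.app_comp_zero (S := S) V.1 a⟩) B
      let L₁ := ((ModuleCat.extendRestrictScalarsAdj φ).homEquiv _ _).symm
        (BCCoh.bcHom φ f f' g H S.X₁ V.1 (g ⁻¹ᵁ V.1) le_rfl)
      let L₂ := ((ModuleCat.extendRestrictScalarsAdj φ).homEquiv _ _).symm
        (BCCoh.bcHom φ f f' g H S.X₂ V.1 (g ⁻¹ᵁ V.1) le_rfl)
      haveI : IsIso L₁ := BCCoh.isIso_of_isBC φ (BCCoh.isBC_bcHom φ f f' g H S.X₁ V.2 rfl)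
      haveI : IsIso L₂ := BCCoh.isIso_of_isBC φ (BCCoh.isBC_bcHom φ f f' g H S.X₂ V.2 rfl)
      obtain ⟨z, hz⟩ := (ConcreteCategory.bijective_of_isIso L₁).2
        ((kernel.ι (G.map S.f)).app (g ⁻¹ᵁ V.1) t)
      have h1 := ConcreteCategory.congr_hom (bc_natural φ f f' g H S.f V.1 (g ⁻¹ᵁ V.1) le_rfl) z
      have h2 : L₂ ((ModuleCat.extendScalars φ).map (ConcreteCategory.ofHom (BCCoh.appA f S.f V.1)) z) = 0 :=
        h1.trans ((congrArg ((G.map S.f).app (g ⁻¹ᵁ V.1)) hz).trans h0)
      have h3 : z = 0 := hinj (((ConcreteCategory.bijective_of_isIso L₂).1 (h2.trans (map_zero _).symm)).trans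
        (map_zero _).symm)
      exact hι ((hz.symm.trans ((congrArg L₁ h3).trans (map_zero _))).trans (map_zero _).symm)
  exact
    { exact := ShortComplex.exact_of_g_is_cokernel _
        (CokernelCofork.mapIsColimit _ hS.gIsCokernel G)
      mono_f := Preadditive.mono_of_isZero_kernel _ hK
      epi_g := inferInstanceAs (Epi (G.map S.g)) }

include H in
/-- **Cohomology and base change for flat complexes**, in derived form. -/
theorem computes_baseChange [QuasiCompact f] [IsSeparated f] [HTor.HasRΓA f] [HTor.HasRΓA f']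
    (P : CochainComplex X.Modules ℤ) (hq : ∀ i, Coh.IsQCoh (P.X i)) (bP : ∃ b : ℤ, ∀ i, b < i → IsZero (P.X i))
    (hfl : ∀ i, AffFlat f (P.X i)) (L : DRing.Cx A) (hL : ∀ i : ℤ, Projective (L.X i))
    (c : ∃ c : ℤ, DRing.VanishesAbove L c) (e : HTor.Computes f L (DCoh.toD X P)) :
    HTor.Computes f' (CohIII.bcCx φ L) (DCoh.toD X' (((HTor.pullCx g)).obj P)) := by
  haveI : CompactSpace X := QuasiCompact.compactSpace_of_compactSpace f
  haveI : X.IsSeparated := ⟨by rw [← terminal.comp_from f]; infer_instance⟩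
  haveI : QuasiCompact f' := MorphismProperty.of_isPullback H (inferInstanceAs (QuasiCompact f))
  haveI : IsSeparated f' := MorphismProperty.of_isPullback H (inferInstanceAs (IsSeparated f))
  obtain ⟨κ, _, V, hV, -, hcov⟩ := QCoh.exists_finite_affine_cover (U := (⊤ : X.Opens))
    (by simpa using isCompact_univ)
  obtain ⟨m, ⟨eκ⟩⟩ := Finite.exists_equiv_fin κ
  let U : Fin (m + 1) → X.Opens := Fin.cases ⊥ fun i => V (eκ.symm i)
  have hU : ∀ i, IsAffineOpen (U i) := fun i => by
    cases i using Fin.cases with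
    | zero => exact isAffineOpen_bot X
    | succ i => exact hV _
  have hcovU : ⨆ i, U i = ⊤ := top_le_iff.1 <| hcov.trans (iSup_le fun k =>
    le_iSup_of_le (Fin.succ (eκ k)) (by simp [U]))
  obtain ⟨s, T, v, hs, hT, -, hhi, hv, hΦ⟩ := exists_acyclic f m U hU hcovU True P hq (fun _ => hfl)
    (D := X'.Modules)
  obtain ⟨b, hb⟩ := bP
  obtain ⟨c, hc⟩ := c
  have hv' : QuasiIso ((HTor.pullCx g).map v) := hΦ (Scheme.Modules.pullback g) fun F hF => by
    obtain ⟨hF1, hF2⟩ := (hs F).1 hF
    have hG := (hs _).1 (s.P_G F hF)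
    exact shortExact_map_pullback φ f f' g H _ (s.shortExact F hF) hF1 hG.1 (((hs _).1 (s.P_coker F hF)).2 trivial)
  let U' : ULift.{u} (Fin (m + 1)) → X.Opens := fun i => U i.down
  have hcov' : iSup U' = ⊤ := by
    rw [← hcovU]
    exact Equiv.ulift.iSup_comp (g := U)
  have haff : ∀ (n : ℕ) (a : Fin (n + 1) → ULift.{u} (Fin (m + 1))), IsAffineOpen (⨅ k, U' (a k)) :=
    fun n a => IsAffineOpen.iInf fun k => hU _
  let Γc := ((HTor.globalSectionsA f).mapHomologicalComplex (ComplexShape.up ℤ)).obj T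
  let Γc' := ((HTor.globalSectionsA f').mapHomologicalComplex (ComplexShape.up ℤ)).obj ((HTor.pullCx g).obj T)
  have hT' : ∀ n, Coh.IsQCoh (((HTor.pullCx g).obj T).X n) := fun n =>
    haveI : (T.X n).IsQuasicoherent := (hT n).1
    FittSheaf.isQuasicoherent_pullback g (T.X n)
  obtain ⟨eT⟩ := computes f T (fun n => (hT n).1) (fun n => (hT n).2.2)
  obtain ⟨eT'⟩ := computes f' ((HTor.pullCx g).obj T) hT' (fun n =>
    haveI : (T.X n).IsQuasicoherent := (hT n).1
    vanishFrom_pullback f (T.X n) U' φ f' g H hcov' haff ((hT n).2.1 trivial) (hT n).2.2)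
  have hiso : Nonempty (CohIII.bcCx φ Γc ≅ Γc') := by
    refine ⟨HomologicalComplex.Hom.isoOfComponents (fun n =>
      haveI : (T.X n).IsQuasicoherent := (hT n).1
      (ModuleCat.extendScalars φ).mapIso (secEquiv f (T.X n)).toModuleIso ≪≫
        @asIso _ _ _ _ _ (isIso_bcTop f (T.X n) U' φ f' g H hcov' haff ((hT n).2.1 trivial) (hT n).2.2) ≪≫
        (secEquiv f' ((Scheme.Modules.pullback g).obj (T.X n))).toModuleIso.symm) fun i j _ => ?_⟩
    let E := ModuleCat.extendScalars φ
    have h1 : (HTor.globalSectionsA f).map (T.d i j) ≫ (secEquiv f (T.X j)).toModuleIso.hom =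
        (secEquiv f (T.X i)).toModuleIso.hom ≫ ConcreteCategory.ofHom (BCCoh.appA f (T.d i j) ⊤) := rfl
    have h2 : ConcreteCategory.ofHom (BCCoh.appA f' ((Scheme.Modules.pullback g).map (T.d i j)) ⊤) ≫
          (secEquiv f' ((Scheme.Modules.pullback g).obj (T.X j))).toModuleIso.inv =
        (secEquiv f' ((Scheme.Modules.pullback g).obj (T.X i))).toModuleIso.inv ≫
          (HTor.globalSectionsA f').map ((Scheme.Modules.pullback g).map (T.d i j)) := rfl
    simp only [Iso.trans_hom, Functor.mapIso_hom, asIso_hom, Iso.symm_hom, Category.assoc]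
    show E.map (secEquiv f (T.X i)).toModuleIso.hom ≫ _ ≫
        (secEquiv f' ((Scheme.Modules.pullback g).obj (T.X i))).toModuleIso.inv ≫
          (HTor.globalSectionsA f').map ((Scheme.Modules.pullback g).map (T.d i j)) =
      E.map ((HTor.globalSectionsA f).map (T.d i j)) ≫ E.map (secEquiv f (T.X j)).toModuleIso.hom ≫ _ ≫ _
    rw [← h2, ← Functor.map_comp_assoc, h1, Functor.map_comp_assoc,
      reassoc_of% (bc_natural φ f f' g H (T.d i j) ⊤ ⊤ le_top)]
  haveI : CochainComplex.IsStrictlyLE L c := (CochainComplex.isStrictlyLE_iff _ _).2 hc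
  haveI := hL
  haveI := CochainComplex.isKProjective_of_projective L c
  obtain ⟨eP⟩ := e
  haveI := hv
  let q : DRing.toD L ≅ DRing.toD Γc :=
    eP ≪≫ (HTor.RΓA f).mapIso (asIso (DerivedCategory.Q.map v)) ≪≫ eT.symm
  obtain ⟨w, hw⟩ := (CochainComplex.IsKProjective.Qh_map_bijective L
    ((HomotopyCategory.quotient _ _).obj Γc)).2 ((DerivedCategory.quotientCompQhIso _).hom.app L ≫ q.hom ≫
      (DerivedCategory.quotientCompQhIso _).inv.app Γc)
  obtain ⟨u, rfl⟩ := (HomotopyCategory.quotient _ _).map_surjective w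
  have hu : QuasiIso u := by
    rw [← DerivedCategory.isIso_Q_map_iff_quasiIso]
    refine (NatIso.isIso_map_iff (DerivedCategory.quotientCompQhIso (ModuleCat.{u} A)) u).1 ?_
    show IsIso (DerivedCategory.Qh.map ((HomotopyCategory.quotient _ _).map u))
    rw [hw]
    infer_instance
  haveI : ∀ i, Module.Flat A (L.X i) := fun i => by
    haveI : Module.Projective A (L.X i) := (IsProjective.iff_projective (R := A) (L.X i)).2 (hL i)
    infer_instance
  haveI : ∀ i, Module.Flat A (Γc.X i) := fun i => by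
    haveI : (T.X i).IsQuasicoherent := (hT i).1
    haveI := flat_cx_of_affFlat f U' (T.X i) ((hT i).2.1 trivial) haff 0
    haveI := flat_cx_of_affFlat f U' (T.X i) ((hT i).2.1 trivial) haff 1
    haveI := flat_coker_cx f U' (T.X i) hcov' haff ((hT i).2.1 trivial) (hT i).2.2 0
    haveI : Module.Flat A (BCCoh.secA f (T.X i) ⊤) := by
      haveI : Module.Flat A (LinearMap.range ((BCCoh.cx f U' (T.X i)).d 0 1).hom) :=
        haveI := flat_ker_of_flat (LinearMap.range ((BCCoh.cx f U' (T.X i)).d 0 1).hom).mkQ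
          (Submodule.mkQ_surjective _)
        Module.Flat.of_linearEquiv (LinearEquiv.ofEq _ _
          (LinearMap.range ((BCCoh.cx f U' (T.X i)).d 0 1).hom).ker_mkQ.symm)
      haveI := flat_ker_of_flat ((BCCoh.cx f U' (T.X i)).d 0 1).hom.rangeRestrict (LinearMap.surjective_rangeRestrict _)
      refine Module.Flat.of_linearEquiv ((LinearEquiv.ofInjective _ (injective_augA f (T.X i) U' hcov')).trans
        (LinearEquiv.ofEq _ (LinearMap.ker ((BCCoh.cx f U' (T.X i)).d 0 1).hom.rangeRestrict) ?_))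
      rw [LinearMap.ker_rangeRestrict]
      exact (LinearMap.exact_iff.1 (exact_augA f (T.X i) U' hcov')).symm
    exact Module.Flat.of_linearEquiv (secEquiv f (T.X i))
  let N := max (c + 1) (b + m + 1)
  haveI := hu
  have hbc : QuasiIso (((ModuleCat.extendScalars φ).mapHomologicalComplex (ComplexShape.up ℤ)).map u) :=
    BCCoh.quasiIso_bcMap u N (fun i hi => hc i (by omega)) (fun M i hi =>
      (HomologicalComplex.exactAt_iff_isZero_homology _ _).1 (HomologicalComplex.ExactAt.of_isZero
        ((MonoidalCategory.tensorRight M).map_isZero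
          ((HTor.globalSectionsA f).map_isZero (hhi b hb i (by omega)))))) φ
  haveI := hbc
  haveI := hv'
  obtain ⟨iso⟩ := hiso
  exact ⟨asIso (DerivedCategory.Q.map (((ModuleCat.extendScalars φ).mapHomologicalComplex (ComplexShape.up ℤ)).map u))
    ≪≫ DerivedCategory.Q.mapIso iso ≪≫ eT' ≪≫
    (HTor.RΓA f').mapIso (asIso (DerivedCategory.Q.map ((HTor.pullCx g).map v))).symm⟩

end GrothLib.BCAcyc22
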