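import Groth.Agent.Lib.BCAcyc22.RelCech
import Groth.Agent.Lib.FunMor20.BCProj

/-! # Pullback of the relative Čech complex -/

set_option autoImplicit false
set_option linter.style.haveILetI false
set_option maxHeartbeats 1000000
set_option backward.isDefEq.respectTransparency.types false
universe u

open CategoryTheory CategoryTheory.Limits AlgebraicGeometry Opposite AlgebraicTopology Simplicial

noncomputable section

namespace GrothLib.BCAcyc22

open Scheme.Modules (restrictFunctor restrictAdjunction)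

variable {X X' : Scheme.{u}} (p : X' ⟶ X)

/-- Restriction to an open inside the preimage of `W` inverts the pullback of the unit at `W`. -/
theorem isIso_restrict_pullback_unit {W : X.Opens} {W' : X'.Opens} (h : W' ≤ p ⁻¹ᵁ W) (F : X.Modules) :
    IsIso ((restrictFunctor W'.ι).map ((Scheme.Modules.pullback p).map ((restrictAdjunction W.ι).unit.app F))) := by
  let φ := (restrictAdjunction W.ι).unit.app F
  let q : (W' : Scheme.{u}) ⟶ W := X'.homOfLE h ≫ (p ∣_ W)
  have hq : q ≫ W.ι = W'.ι ≫ p := by simp [q]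
  haveI : IsIso ((restrictFunctor W.ι).map φ) := isIso_restrict_unit (fun _ : PUnit.{u + 1} => W) PUnit.unit F
  haveI : IsIso ((Scheme.Modules.pullback W.ι).map φ) :=
    (NatIso.isIso_map_iff (Scheme.Modules.restrictFunctorIsoPullback W.ι) φ).1 inferInstance
  haveI : IsIso ((Scheme.Modules.pullback W.ι ⋙ Scheme.Modules.pullback q).map φ) :=
    inferInstanceAs (IsIso ((Scheme.Modules.pullback q).map ((Scheme.Modules.pullback W.ι).map φ)))
  haveI : IsIso ((Scheme.Modules.pullback p ⋙ Scheme.Modules.pullback W'.ι).map φ) :=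
    (NatIso.isIso_map_iff (Scheme.Modules.pullbackComp q W.ι ≪≫ Scheme.Modules.pullbackCongr hq ≪≫
      (Scheme.Modules.pullbackComp W'.ι p).symm) φ).1 inferInstance
  exact (NatIso.isIso_map_iff (Scheme.Modules.restrictFunctorIsoPullback W'.ι) _).2
    (inferInstanceAs (IsIso ((Scheme.Modules.pullback p ⋙ Scheme.Modules.pullback W'.ι).map φ)))

/-- Maps from the pullback of `j_* j^* F` into a direct image from inside the preimage. -/
theorem pullPushRestr_hom_ext {W : X.Opens} {W' : X'.Opens} (h : W' ≤ p ⁻¹ᵁ W) (F : X.Modules)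
    {N : (W' : Scheme.{u}).Modules}
    {φ ψ : (Scheme.Modules.pullback p).obj ((CechOX.pushRestr W).obj F) ⟶ (Scheme.Modules.pushforward W'.ι).obj N}
    (e : (Scheme.Modules.pullback p).map ((restrictAdjunction W.ι).unit.app F) ≫ φ =
      (Scheme.Modules.pullback p).map ((restrictAdjunction W.ι).unit.app F) ≫ ψ) : φ = ψ := by
  haveI := isIso_restrict_pullback_unit p h F
  refine ((restrictAdjunction W'.ι).homEquiv _ _).symm.injective ?_
  have h2 := congrArg ((restrictAdjunction W'.ι).homEquiv _ _).symm e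
  rw [Adjunction.homEquiv_naturality_left_symm, Adjunction.homEquiv_naturality_left_symm] at h2
  exact (cancel_epi _).1 h2

/-- The comparison `p^* (j_* j^* F) ⟶ j'_* j'^* (p^* F)`. -/
def pullPushRestr {W : X.Opens} {W' : X'.Opens} (h : W' ≤ p ⁻¹ᵁ W) (F : X.Modules) :
    (Scheme.Modules.pullback p).obj ((CechOX.pushRestr W).obj F) ⟶
      (CechOX.pushRestr W').obj ((Scheme.Modules.pullback p).obj F) :=
  haveI := isIso_restrict_pullback_unit p h F
  (restrictAdjunction W'.ι).unit.app _ ≫ (Scheme.Modules.pushforward W'.ι).map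
    (inv ((restrictFunctor W'.ι).map ((Scheme.Modules.pullback p).map ((restrictAdjunction W.ι).unit.app F))))

theorem unit_pullPushRestr {W : X.Opens} {W' : X'.Opens} (h : W' ≤ p ⁻¹ᵁ W) (F : X.Modules) :
    (Scheme.Modules.pullback p).map ((restrictAdjunction W.ι).unit.app F) ≫ pullPushRestr p h F =
      (restrictAdjunction W'.ι).unit.app ((Scheme.Modules.pullback p).obj F) := by
  haveI := isIso_restrict_pullback_unit p h F
  unfold pullPushRestr
  refine (Category.assoc _ _ _).symm.trans ((congrArg (· ≫ _) ((restrictAdjunction W'.ι).unit.naturality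
    ((Scheme.Modules.pullback p).map ((restrictAdjunction W.ι).unit.app F)))).trans ((Category.assoc _ _ _).trans ?_))
  exact (congrArg (_ ≫ ·) (((Scheme.Modules.pushforward W'.ι).map_comp _ _).symm.trans
    ((congrArg (Scheme.Modules.pushforward W'.ι).map (IsIso.hom_inv_id _)).trans
      ((Scheme.Modules.pushforward W'.ι).map_id _)))).trans (Category.comp_id _)

theorem pullPushRestr_res {W V : X.Opens} {W' V' : X'.Opens} (h : W' ≤ p ⁻¹ᵁ W) (k : V' ≤ p ⁻¹ᵁ V)
    (a : V ≤ W) (a' : V' ≤ W') (F : X.Modules) :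
    (Scheme.Modules.pullback p).map (CechOX.pushRestrMapApp a F) ≫ pullPushRestr p k F =
      pullPushRestr p h F ≫ CechOX.pushRestrMapApp a' ((Scheme.Modules.pullback p).obj F) := by
  refine pullPushRestr_hom_ext p (h := a'.trans h) F ?_
  rw [← Category.assoc, ← Functor.map_comp, unit_pushRestrMap, unit_pullPushRestr, ← Category.assoc,
    unit_pullPushRestr, unit_pushRestrMap]

/-- A map between direct images from an open subscheme is invertible if it is so on the open. -/
theorem isIso_of_isIso_restrict {W' : X'.Opens} {A : X'.Modules} {N M : (W' : Scheme.{u}).Modules}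
    (e : A ≅ (Scheme.Modules.pushforward W'.ι).obj N) (φ : A ⟶ (Scheme.Modules.pushforward W'.ι).obj M)
    (hφ : IsIso ((restrictFunctor W'.ι).map φ)) : IsIso φ := by
  let adj := restrictAdjunction W'.ι
  have hu : ∀ L, IsIso (adj.unit.app ((Scheme.Modules.pushforward W'.ι).obj L)) := fun L => by
    haveI : IsIso ((Scheme.Modules.pushforward W'.ι).map (adj.counit.app L)) := inferInstance
    exact ⟨(Scheme.Modules.pushforward W'.ι).map (adj.counit.app L), adj.right_triangle_components L, by
      rw [← cancel_mono ((Scheme.Modules.pushforward W'.ι).map (adj.counit.app L))]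
      simp⟩
  haveI := hu N
  haveI := hu M
  haveI : IsIso (adj.unit.app A) := (NatTrans.isIso_app_iff_of_iso adj.unit e).2 (hu N)
  exact @IsIso.of_isIso_fac_right _ _ _ _ _ _ _ _ (hu M)
    (inferInstanceAs (IsIso (adj.unit.app A ≫ (Scheme.Modules.pushforward W'.ι).map ((restrictFunctor W'.ι).map φ))))
    (adj.unit.naturality φ)

theorem isIso_pullPushRestr {W : X.Opens} {W' : X'.Opens} (hW : W' = p ⁻¹ᵁ W) [IsAffineHom W.ι] (F : X.Modules)
    (hF : Coh.IsQCoh F) : IsIso (pullPushRestr p hW.le F) := by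
  subst hW
  haveI : F.IsQuasicoherent := hF
  let N := (restrictFunctor W.ι).obj F
  haveI : N.IsQuasicoherent := inferInstanceAs ((restrictFunctor W.ι).obj F).IsQuasicoherent
  have sq := isPullback_morphismRestrict p W
  haveI := AffBC.isIso_bcMap sq N
  refine isIso_of_isIso_restrict (asIso (AffBC.bcMap sq N)) _ ?_
  haveI := isIso_restrict_pullback_unit p (W := W) (W' := p ⁻¹ᵁ W) le_rfl F
  haveI h2 : IsIso ((restrictFunctor (p ⁻¹ᵁ W).ι).map
      ((restrictAdjunction (p ⁻¹ᵁ W).ι).unit.app ((Scheme.Modules.pullback p).obj F))) :=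
    isIso_restrict_unit (fun _ : PUnit.{u + 1} => p ⁻¹ᵁ W) PUnit.unit _
  exact @IsIso.of_isIso_fac_left _ _ _ _ _ _ _ _ inferInstance h2
    (((restrictFunctor (p ⁻¹ᵁ W).ι).map_comp _ _).symm.trans
      (congrArg (restrictFunctor (p ⁻¹ᵁ W).ι).map (unit_pullPushRestr p le_rfl F)))

/-- A natural transformation invertible at the factors is invertible at a finite product. -/
theorem isIso_app_pi {C D : Type*} [Category C] [Category D] {F G : C ⥤ D} (τ : F ⟶ G) {J : Type*} (g : J → C)
    [HasProduct g] [HasProduct fun a => F.obj (g a)] [HasProduct fun a => G.obj (g a)]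
    [PreservesLimit (Discrete.functor g) F] [PreservesLimit (Discrete.functor g) G]
    [∀ a, IsIso (τ.app (g a))] : IsIso (τ.app (∏ᶜ g)) := by
  have e : τ.app (∏ᶜ g) ≫ piComparison G g = piComparison F g ≫ Limits.Pi.map fun a => τ.app (g a) :=
    Pi.hom_ext _ _ fun a => by simp
  have h1 : IsIso (piComparison F g) := inferInstance
  have h2 : IsIso (piComparison G g) := inferInstance
  have h3 : IsIso (Limits.Pi.map fun a => τ.app (g a)) :=
    ⟨Limits.Pi.map fun a => inv (τ.app (g a)), Pi.hom_ext _ _ fun a => by simp, Pi.hom_ext _ _ fun a => by simp⟩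
  exact @IsIso.of_isIso_fac_right _ _ _ _ _ _ _ _ h2 (@IsIso.comp_isIso _ _ _ _ _ _ _ h1 h3) e

variable {ι : Type u} (U : ι → X.Opens)

theorem prod_le_preimage {n : ℕ} (a : Fin (n + 1) → ι) :
    (∏ᶜ ((fun i => p ⁻¹ᵁ U i) ∘ a) : X'.Opens) ≤ p ⁻¹ᵁ (∏ᶜ (U ∘ a)) := by
  have e : (⨅ k, U (a k)) ≤ ∏ᶜ (U ∘ a) :=
    (Limits.Pi.lift (f := U ∘ a) fun k ↦ homOfLE (iInf_le (fun k ↦ U (a k)) k)).le
  intro x hx
  refine e ?_
  have : ∀ k, x ∈ p ⁻¹ᵁ U (a k) := fun k => (Limits.Pi.π ((fun i => p ⁻¹ᵁ U i) ∘ a) k).le hx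
  show p x ∈ (⨅ k, U (a k) : X.Opens)
  rw [← Finset.inf_univ_eq_iInf, ← SetLike.mem_coe, TopologicalSpace.Opens.coe_finset_inf]
  simpa using this

theorem prod_eq_preimage {n : ℕ} (a : Fin (n + 1) → ι) :
    (∏ᶜ ((fun i => p ⁻¹ᵁ U i) ∘ a) : X'.Opens) = p ⁻¹ᵁ (∏ᶜ (U ∘ a)) :=
  le_antisymm (prod_le_preimage p U a) (Limits.Pi.lift (f := (fun i => p ⁻¹ᵁ U i) ∘ a) fun k =>
    homOfLE (p.preimage_mono (Limits.Pi.π (U ∘ a) k).le)).le

/-- The cosimplicial Čech object. -/
abbrev cechCosimp (F : X.Modules) : CosimplicialObject X.Modules :=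
  (FormalCoproduct.cosimplicialObjectFunctor (FormalCoproduct.mk _ U).cech).obj (CechOX.pushRestrFam.flip.obj F)

/-- The component of a term of the Čech complex. -/
abbrev cechTerm (F : X.Modules) {n : ℕ} (a : Fin (n + 1) → ι) : X.Modules :=
  (CechOX.pushRestr (∏ᶜ (U ∘ a))).obj F

theorem cechCosimp_map_π (F : X.Modules) {n m : ℕ} (φ : ⦋n⦌ ⟶ ⦋m⦌) (b : Fin (m + 1) → ι) :
    (cechCosimp U F).map φ ≫ Pi.π (fun a : Fin (m + 1) → ι => cechTerm U F a) b =
      Pi.π (fun a : Fin (n + 1) → ι => cechTerm U F a) (b ∘ φ.toOrderHom) ≫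
        CechOX.pushRestrMapApp
          (Limits.Pi.lift (f := U ∘ b ∘ φ.toOrderHom) fun k => Limits.Pi.π (U ∘ b) (φ.toOrderHom k)).le F :=
  Pi.lift_π _ _

theorem cechSh_d (F : X.Modules) (n : ℕ) :
    ((CechOX.cechSh U).obj F).d n (n + 1) = AlternatingCofaceMapComplex.objD (cechCosimp U F) n :=
  CochainComplex.of_d (fun k => (cechCosimp U F).obj ⦋k⦌) (AlternatingCofaceMapComplex.objD (cechCosimp U F)) n

/-- The family pulled back. -/
abbrev preFam : ι → X'.Opens := fun i => p ⁻¹ᵁ U i

/-- The comparison in one degree. -/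
def pullCechX (F : X.Modules) (n : ℕ) :
    (Scheme.Modules.pullback p).obj (((CechOX.cechSh U).obj F).X n) ⟶
      ((CechOX.cechSh (preFam p U)).obj ((Scheme.Modules.pullback p).obj F)).X n :=
  Pi.lift fun a : Fin (n + 1) → ι =>
    (Scheme.Modules.pullback p).map (Pi.π (fun b : Fin (n + 1) → ι => cechTerm U F b) a) ≫
      pullPushRestr p (prod_le_preimage p U a) F

theorem pullCechX_π (F : X.Modules) (n : ℕ) (a : Fin (n + 1) → ι) :
    pullCechX p U F n ≫ Pi.π (fun b : Fin (n + 1) → ι =>
        cechTerm (preFam p U) ((Scheme.Modules.pullback p).obj F) b) a =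
      (Scheme.Modules.pullback p).map (Pi.π (fun b : Fin (n + 1) → ι => cechTerm U F b) a) ≫
        pullPushRestr p (prod_le_preimage p U a) F :=
  Pi.lift_π _ _

theorem pullCechX_δ (F : X.Modules) (n : ℕ) (k : Fin (n + 2)) :
    pullCechX p U F n ≫ (cechCosimp (preFam p U) ((Scheme.Modules.pullback p).obj F)).δ k =
      (Scheme.Modules.pullback p).map ((cechCosimp U F).δ k) ≫ pullCechX p U F (n + 1) := by
  refine Pi.hom_ext _ _ fun b => ?_
  refine (Category.assoc _ _ _).trans (Eq.trans ?_ (Category.assoc _ _ _).symm)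
  refine (congrArg (pullCechX p U F n ≫ ·)
    (cechCosimp_map_π (preFam p U) _ (SimplexCategory.δ k) b)).trans (Eq.trans ?_
    (congrArg ((Scheme.Modules.pullback p).map ((cechCosimp U F).δ k) ≫ ·) (pullCechX_π p U F (n + 1) b)).symm)
  refine ((Category.assoc _ _ _).symm.trans (congrArg (· ≫ _) (pullCechX_π p U F n _))).trans ?_
  refine (Category.assoc _ _ _).trans (Eq.trans ?_ (Category.assoc _ _ _))
  refine Eq.trans ?_ (congrArg (· ≫ pullPushRestr p (prod_le_preimage p U b) F)
    (((Scheme.Modules.pullback p).map_comp _ _).symm.trans (congrArg (Scheme.Modules.pullback p).map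
      (cechCosimp_map_π U F (SimplexCategory.δ k) b)))).symm
  refine Eq.trans ?_ ((congrArg (· ≫ pullPushRestr p (prod_le_preimage p U b) F)
    ((Scheme.Modules.pullback p).map_comp _ _)).trans (Category.assoc _ _ _)).symm
  exact congrArg (_ ≫ ·) (pullPushRestr_res p _ _ _ _ F).symm

/-- Pullback of the Čech complex of sheaves. -/
def pullCech [(Scheme.Modules.pullback p).Additive] (F : X.Modules) :
    ((Scheme.Modules.pullback p).mapHomologicalComplex (ComplexShape.up ℕ)).obj ((CechOX.cechSh U).obj F) ⟶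
      (CechOX.cechSh (preFam p U)).obj ((Scheme.Modules.pullback p).obj F) where
  f n := pullCechX p U F n
  comm' i j hij := by
    obtain rfl : i + 1 = j := hij
    show pullCechX p U F i ≫ ((CechOX.cechSh (preFam p U)).obj ((Scheme.Modules.pullback p).obj F)).d i (i + 1) =
      (Scheme.Modules.pullback p).map (((CechOX.cechSh U).obj F).d i (i + 1)) ≫ pullCechX p U F (i + 1)
    rw [cechSh_d, cechSh_d]
    unfold AlternatingCofaceMapComplex.objD
    refine (Preadditive.comp_sum _ _ _).trans (Eq.trans (Finset.sum_congr rfl fun k _ => ?_)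
      ((congrArg (· ≫ pullCechX p U F (i + 1)) (Functor.map_sum _ _ _)).trans (Preadditive.sum_comp _ _ _)).symm)
    refine (Preadditive.comp_zsmul _ _ _).trans ((congrArg _ (pullCechX_δ p U F i k)).trans
      ((Preadditive.zsmul_comp _ _ _).symm.trans (congrArg (· ≫ pullCechX p U F (i + 1))
        (Functor.map_zsmul _).symm)))

theorem isIso_pullCechX [Finite ι] [(Scheme.Modules.pullback p).Additive] (F : X.Modules) (hF : Coh.IsQCoh F) (n : ℕ)
    (hj : ∀ a : Fin (n + 1) → ι, IsAffineHom (∏ᶜ (U ∘ a) : X.Opens).ι) : IsIso (pullCechX p U F n) := by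
  let t := fun a : Fin (n + 1) → ι => pullPushRestr p (prod_le_preimage p U a) F
  haveI : ∀ a, IsIso (t a) := fun a =>
    haveI := hj a
    isIso_pullPushRestr p (prod_eq_preimage p U a) F hF
  have e : pullCechX p U F n = piComparison (Scheme.Modules.pullback p) (fun a : Fin (n + 1) → ι => cechTerm U F a) ≫
      Limits.Pi.map t := by
    refine Pi.hom_ext _ _ fun a => (pullCechX_π p U F n a).trans ?_
    refine Eq.trans ?_ (Category.assoc _ _ _).symm
    refine Eq.trans ?_ (congrArg (_ ≫ ·) (Limits.Pi.map_π t a)).symm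
    exact (piComparison_comp_π_assoc _ _ _ _).symm
  have h1 : IsIso (piComparison (Scheme.Modules.pullback p) (fun a : Fin (n + 1) → ι => cechTerm U F a)) :=
    haveI : PreservesLimitsOfShape (Discrete (Fin (n + 1) → ι)) (Scheme.Modules.pullback p) := inferInstance
    inferInstance
  have h3 : IsIso (Limits.Pi.map t) :=
    ⟨Limits.Pi.map fun a => inv (t a), Pi.hom_ext _ _ fun a => by simp, Pi.hom_ext _ _ fun a => by simp⟩
  rw [e]
  exact @IsIso.comp_isIso _ _ _ _ _ _ _ h1 h3

end GrothLib.BCAcyc22
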