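import Groth.Agent.Lib.BCAcyc22.PullRelCech

/-! # Base change of the relative Čech complex -/

set_option autoImplicit false
set_option linter.style.haveILetI false
set_option maxHeartbeats 1000000
set_option backward.isDefEq.respectTransparency.types false
universe u

open CategoryTheory CategoryTheory.Limits AlgebraicGeometry Opposite

attribute [local instance] HasDerivedCategory.standard

noncomputable section

namespace GrothLib.BCAcyc22

open Scheme.Modules (restrictFunctor)

variable {X S X' S' : Scheme.{u}} {f : X ⟶ S} {g : S' ⟶ S} {g' : X' ⟶ X} {f' : X' ⟶ S'}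
  (h : IsPullback g' f' f g)

/-- Base change as a natural transformation. -/
def bcNat : Scheme.Modules.pushforward f ⋙ Scheme.Modules.pullback g ⟶
    Scheme.Modules.pullback g' ⋙ Scheme.Modules.pushforward f' where
  app M := AffBC.bcMap h M
  naturality _ _ a := FunMor20.bcMap_natural h a

theorem isIso_bcMap_pushRestr {W : X.Opens} [IsAffineHom W.ι] [IsAffineHom (W.ι ≫ f)] (F : X.Modules)
    (hF : Coh.IsQCoh F) : IsIso (AffBC.bcMap h ((CechOX.pushRestr W).obj F)) := by
  haveI : F.IsQuasicoherent := hF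
  let N := (restrictFunctor W.ι).obj F
  haveI : N.IsQuasicoherent := inferInstanceAs ((restrictFunctor W.ι).obj F).IsQuasicoherent
  have h' := isPullback_morphismRestrict g' W
  have h'' : IsPullback (g' ∣_ W) ((g' ⁻¹ᵁ W).ι ≫ f') (W.ι ≫ f) g := h'.paste_vert h
  haveI := AffBC.isIso_bcMap h'' N
  haveI := AffBC.isIso_bcMap h' N
  haveI hc : IsIso ((Scheme.Modules.pullback g).map ((Scheme.Modules.pushforwardComp W.ι f).inv.app N) ≫
      (AffBC.bcMap h ((Scheme.Modules.pushforward W.ι).obj N) ≫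
        (Scheme.Modules.pushforward f').map (AffBC.bcMap h' N)) ≫
      (Scheme.Modules.pushforwardComp (g' ⁻¹ᵁ W).ι f').hom.app _) := by
    simp only [Category.assoc]
    rw [FunMor20.bcMap_comp h h' h'' N]
    infer_instance
  haveI := @IsIso.of_isIso_comp_left _ _ _ _ _
    ((Scheme.Modules.pullback g).map ((Scheme.Modules.pushforwardComp W.ι f).inv.app N)) _ inferInstance hc
  haveI hb := IsIso.of_isIso_comp_right (AffBC.bcMap h ((Scheme.Modules.pushforward W.ι).obj N) ≫
    (Scheme.Modules.pushforward f').map (AffBC.bcMap h' N))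
    ((Scheme.Modules.pushforwardComp (g' ⁻¹ᵁ W).ι f').hom.app _)
  exact @IsIso.of_isIso_comp_right _ _ _ _ _ (AffBC.bcMap h ((Scheme.Modules.pushforward W.ι).obj N))
    ((Scheme.Modules.pushforward f').map (AffBC.bcMap h' N)) inferInstance hb

variable {ι : Type u} (U : ι → X.Opens) (F : X.Modules)

/-- The base change map of relative Čech complexes. -/
def relCechBC [(Scheme.Modules.pullback g).Additive] [(Scheme.Modules.pullback g').Additive] :
    ((Scheme.Modules.pullback g).mapHomologicalComplex (ComplexShape.up ℕ)).obj ((CechOX.relCech U f).obj F) ⟶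
      (CechOX.relCech (preFam g' U) f').obj ((Scheme.Modules.pullback g').obj F) where
  f n := AffBC.bcMap h (((CechOX.cechSh U).obj F).X n) ≫ (Scheme.Modules.pushforward f').map (pullCechX g' U F n)
  comm' i j hij := by
    obtain rfl : i + 1 = j := hij
    show (_ ≫ _) ≫ (Scheme.Modules.pushforward f').map
        (((CechOX.cechSh (preFam g' U)).obj ((Scheme.Modules.pullback g').obj F)).d i (i + 1)) =
      (Scheme.Modules.pullback g).map ((Scheme.Modules.pushforward f).map
        (((CechOX.cechSh U).obj F).d i (i + 1))) ≫ _ ≫ _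
    refine (Category.assoc _ _ _).trans (Eq.trans ?_ (Category.assoc _ _ _))
    refine Eq.trans ?_ ((congrArg (· ≫ (Scheme.Modules.pushforward f').map (pullCechX g' U F (i + 1)))
      (FunMor20.bcMap_natural h (((CechOX.cechSh U).obj F).d i (i + 1)))).trans (Category.assoc _ _ _)).symm
    refine congrArg (_ ≫ ·) ?_
    exact ((Scheme.Modules.pushforward f').map_comp _ _).symm.trans
      ((congrArg (Scheme.Modules.pushforward f').map ((pullCech g' U F).comm i (i + 1))).trans
        ((Scheme.Modules.pushforward f').map_comp _ _))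

theorem isIso_relCechBC [Finite ι] [(Scheme.Modules.pullback g).Additive] [(Scheme.Modules.pullback g').Additive]
    (hF : Coh.IsQCoh F) (hj : ∀ p : ℕ, ∀ a : Fin (p + 1) → ι, IsAffineHom (∏ᶜ (U ∘ a) : X.Opens).ι)
    (hjf : ∀ p : ℕ, ∀ a : Fin (p + 1) → ι, IsAffineHom ((∏ᶜ (U ∘ a) : X.Opens).ι ≫ f)) :
    IsIso (relCechBC h U F) := by
  haveI : ∀ n, IsIso ((relCechBC h U F).f n) := fun n => by
    let t := fun a : Fin (n + 1) → ι => cechTerm U F a
    haveI : ∀ a, IsIso ((bcNat h).app (t a)) := fun a =>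
      haveI := hj n a
      haveI := hjf n a
      isIso_bcMap_pushRestr h F hF
    haveI : PreservesLimitsOfShape (Discrete (Fin (n + 1) → ι)) (Scheme.Modules.pushforward f ⋙ Scheme.Modules.pullback g) :=
      inferInstance
    haveI : PreservesLimitsOfShape (Discrete (Fin (n + 1) → ι)) (Scheme.Modules.pullback g' ⋙ Scheme.Modules.pushforward f') :=
      inferInstance
    have h1 : IsIso (AffBC.bcMap h (((CechOX.cechSh U).obj F).X n)) := isIso_app_pi (bcNat h) t
    haveI h2 := isIso_pullCechX g' U F hF n (hj n)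
    exact @IsIso.comp_isIso _ _ _ _ _ _ _ h1 (@Functor.map_isIso _ _ _ _ _ _ (Scheme.Modules.pushforward f') _ h2)
  exact HomologicalComplex.Hom.isIso_of_components _

include h in
theorem isAffineHom_preFam (hj : ∀ p : ℕ, ∀ a : Fin (p + 1) → ι, IsAffineHom (∏ᶜ (U ∘ a) : X.Opens).ι)
    (hjf : ∀ p : ℕ, ∀ a : Fin (p + 1) → ι, IsAffineHom ((∏ᶜ (U ∘ a) : X.Opens).ι ≫ f))
    (p : ℕ) (a : Fin (p + 1) → ι) : IsAffineHom (∏ᶜ (preFam g' U ∘ a) : X'.Opens).ι ∧
      IsAffineHom ((∏ᶜ (preFam g' U ∘ a) : X'.Opens).ι ≫ f') := by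
  have e := prod_eq_preimage g' U a
  show IsAffineHom (∏ᶜ ((fun i => g' ⁻¹ᵁ U i) ∘ a) : X'.Opens).ι ∧
    IsAffineHom ((∏ᶜ ((fun i => g' ⁻¹ᵁ U i) ∘ a) : X'.Opens).ι ≫ f')
  rw [e]
  have h' := isPullback_morphismRestrict g' (∏ᶜ (U ∘ a))
  exact ⟨MorphismProperty.of_isPullback (P := @IsAffineHom) h' (hj p a),
    MorphismProperty.of_isPullback (P := @IsAffineHom) (h'.paste_vert h) (hjf p a)⟩

theorem iSup_preFam (hcov : ⨆ i, U i = ⊤) : ⨆ i, preFam g' U i = ⊤ := by
  rw [← Scheme.Hom.preimage_iSup, hcov]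
  rfl

include h in
/-- Base change of the relative Čech complex, with what it computes. -/
theorem nonempty_relCech_baseChange [QuasiCompact f] [QuasiSeparated f] [Finite ι]
    [(Scheme.Modules.pullback g).Additive]
    (hF : Coh.IsQCoh F) (hj : ∀ p : ℕ, ∀ a : Fin (p + 1) → ι, IsAffineHom (∏ᶜ (U ∘ a) : X.Opens).ι)
    (hjf : ∀ p : ℕ, ∀ a : Fin (p + 1) → ι, IsAffineHom ((∏ᶜ (U ∘ a) : X.Opens).ι ≫ f))
    (hcov : ⨆ i, U i = ⊤) [DCoh.HasRpush f'] :
    Nonempty (((Scheme.Modules.pullback g).mapHomologicalComplex (ComplexShape.up ℕ)).obj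
        ((CechOX.relCech U f).obj F) ≅ (CechOX.relCech (preFam g' U) f').obj ((Scheme.Modules.pullback g').obj F)) ∧
    Nonempty (DCoh.toD S' ((((Scheme.Modules.pullback g).mapHomologicalComplex (ComplexShape.up ℕ)).obj
        ((CechOX.relCech U f).obj F)).extend ComplexShape.embeddingUpNat) ≅
      (DCoh.Rpush f').obj (DCoh.inD _ ((Scheme.Modules.pullback g').obj F))) := by
  haveI : (Scheme.Modules.pullback g').Additive := (Scheme.Modules.pullbackPushforwardAdjunction g').left_adjoint_additive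
  haveI := isIso_relCechBC h U F hF hj hjf
  haveI : QuasiCompact f' := MorphismProperty.of_isPullback (P := @QuasiCompact) h ‹_›
  haveI : QuasiSeparated f' := MorphismProperty.of_isPullback (P := @QuasiSeparated) h ‹_›
  haveI : F.IsQuasicoherent := hF
  obtain ⟨e⟩ := nonempty_relCechZ_iso' f' (preFam g' U) ((Scheme.Modules.pullback g').obj F)
    (FittSheaf.isQuasicoherent_pullback g' F) (fun p a => (isAffineHom_preFam h U hj hjf p a).1)
    (fun p a => (isAffineHom_preFam h U hj hjf p a).2) (iSup_preFam U hcov)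
  exact ⟨⟨asIso (relCechBC h U F)⟩,
    ⟨DerivedCategory.Q.mapIso ((ComplexShape.embeddingUpNat.extendFunctor S'.Modules).mapIso
      (asIso (relCechBC h U F))) ≪≫ e⟩⟩

end GrothLib.BCAcyc22
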