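import Groth.Agent.Lib.BCAcyc22.CechSheaf
import Groth.Agent.Lib.OX.AcyclicPush
import Groth.Agent.Lib.Cohom.PushDerived
import Groth.Agent.Lib.BCCoh.MapExtend
import Groth.Agent.Lib.QCoh.Qcqs
import Groth.Agent.Lib.QCoh.Abelian
import Groth.Prelude.Def_CechOX
import Groth.Prelude.Def_DCoh2
import Mathlib.AlgebraicGeometry.Morphisms.Separated

/-! # The relative Čech complex computes the derived direct image -/

set_option autoImplicit false
set_option maxHeartbeats 1000000
universe u

open CategoryTheory CategoryTheory.Limits AlgebraicGeometry Opposite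

attribute [local instance] HasDerivedCategory.standard

namespace GrothLib.BCAcyc22

variable {X S : Scheme.{u}} (f : X ⟶ S)

theorem isAffineHom_of_affineDiagonal [IsAffineHom (pullback.diagonal (terminal.from X))]
    {W : Scheme.{u}} [IsAffine W] (g : W ⟶ X) : IsAffineHom g :=
  haveI : MorphismProperty.HasOfPostcompProperty @IsAffineHom (MorphismProperty.diagonal @IsAffineHom) :=
    MorphismProperty.hasOfPostcompProperty_iff_le_diagonal.mpr le_rfl
  MorphismProperty.of_postcomp (W := @IsAffineHom) (W' := MorphismProperty.diagonal @IsAffineHom)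
    g (terminal.from X) ‹_› (isAffineHom_of_isAffine (g ≫ terminal.from X))

theorem quasiSeparated_terminal [IsAffineHom (pullback.diagonal (terminal.from X))] :
    QuasiSeparated (terminal.from X) := ⟨inferInstance⟩

theorem quasiSeparated_of_affineDiagonal [IsAffineHom (pullback.diagonal (terminal.from X))] :
    QuasiSeparated f := by
  haveI := quasiSeparated_terminal (X := X)
  haveI : QuasiSeparated (f ≫ terminal.from S) := by rw [terminal.comp_from]; infer_instance
  exact QuasiSeparated.of_comp f (terminal.from S)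

theorem quasiCompact_of_affineDiagonal [CompactSpace X] [IsAffineHom (pullback.diagonal (terminal.from S))] :
    QuasiCompact f := by
  haveI := quasiSeparated_terminal (X := S)
  haveI : QuasiCompact (f ≫ terminal.from S) := by
    rw [terminal.comp_from]; exact (compactSpace_iff_quasiCompact X).1 inferInstance
  exact QuasiCompact.of_comp f (terminal.from S)

/-- A finite intersection of affine opens is affine when the diagonal is affine. -/
theorem isAffineOpen_piObj [IsAffineHom (pullback.diagonal (terminal.from X))] {J : Type*} [Finite J] [Nonempty J]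
    (V : J → X.Opens) (hV : ∀ k, IsAffineOpen (V k)) : IsAffineOpen (⨅ k, V k) := by
  classical
  haveI := Fintype.ofFinite J
  suffices ∀ s : Finset J, s.Nonempty → IsAffineOpen (⨅ k ∈ s, V k) by
    simpa using this Finset.univ Finset.univ_nonempty
  intro s hs
  induction hs using Finset.Nonempty.cons_induction with
  | singleton a => simpa using hV a
  | cons a t ha ht ih =>
    rw [Finset.cons_eq_insert, Finset.iInf_insert]
    haveI : IsAffine (V a : Scheme.{u}) := hV a
    haveI := isAffineHom_of_affineDiagonal (V a).ι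
    have h := (ih.preimage (V a).ι).image_of_isOpenImmersion (V a).ι
    rwa [Scheme.Hom.image_preimage_eq_opensRange_inf, Scheme.Opens.opensRange_ι] at h

variable {ι : Type u} (U : ι → X.Opens) (hU : ∀ i, IsAffineOpen (U i)) (F : X.Modules)

include hU in
theorem isAffineOpen_cechIndex [IsAffineHom (pullback.diagonal (terminal.from X))] {p : ℕ} (a : Fin (p + 1) → ι) :
    IsAffineOpen (∏ᶜ (U ∘ a)) := by
  have e : ∏ᶜ (U ∘ a) = ⨅ k, U (a k) :=
    le_antisymm (le_iInf fun k ↦ (Limits.Pi.π (U ∘ a) k).le)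
      (Limits.Pi.lift (f := U ∘ a) fun k ↦ homOfLE (iInf_le (fun k ↦ U (a k)) k)).le
  rw [e]; exact isAffineOpen_piObj (fun k => U (a k)) fun k => hU _

theorem isZero_map_biproduct {C D : Type*} [Category C] [Category D] [Preadditive C] [Preadditive D] (R : C ⥤ D)
    [R.Additive] {J : Type*} [Finite J] (g : J → C) [HasBiproduct g] (h : ∀ a, IsZero (R.obj (g a))) :
    IsZero (R.obj (⨁ g)) := by
  classical
  haveI := Fintype.ofFinite J
  rw [IsZero.iff_id_eq_zero, ← R.map_id,
    show 𝟙 (⨁ g) = ∑ j, biproduct.π g j ≫ biproduct.ι g j from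
      (IsBilimit.total (biproduct.isBilimit g)).symm, R.map_sum]
  exact Finset.sum_eq_zero fun a _ => by rw [R.map_comp, (h a).eq_of_tgt (R.map (biproduct.π g a)) 0, zero_comp]

/-- A finite product of acyclic objects is acyclic. -/
theorem isAcyclicObj_pi [HasInjectiveResolutions X.Modules] {J : Type*} [Finite J] (g : J → X.Modules)
    (h : ∀ a, GrothSS.IsAcyclicObj (Scheme.Modules.pushforward f) (g a)) [HasProduct g] :
    GrothSS.IsAcyclicObj (Scheme.Modules.pushforward f) (∏ᶜ g) := by
  haveI : HasFiniteBiproducts X.Modules := Abelian.hasFiniteBiproducts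
  refine GrothSS.isAcyclicObj_of_iso _ (biproduct.isoProduct g) fun k => ?_
  exact isZero_map_biproduct ((Scheme.Modules.pushforward f).rightDerived (k + 1)) g fun a => h a k

include hU in
theorem isQCoh_pushRestr [IsAffineHom (pullback.diagonal (terminal.from X))] (hF : Coh.IsQCoh F) {p : ℕ}
    (a : Fin (p + 1) → ι) :
    ((CechOX.pushRestr (∏ᶜ (U ∘ a))).obj F).IsQuasicoherent := by
  have hA := isAffineOpen_cechIndex U hU a
  generalize (∏ᶜ (U ∘ a)) = W at hA ⊢
  haveI : IsAffine W.toScheme := hA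
  haveI : F.IsQuasicoherent := hF
  haveI := isAffineHom_of_affineDiagonal W.ι
  haveI : ((Scheme.Modules.restrictFunctor W.ι).obj F).IsQuasicoherent := inferInstance
  exact GrothLib.QCoh.isQuasicoherent_pushforward W.ι ((Scheme.Modules.restrictFunctor W.ι).obj F)

include hU in
theorem isQCoh_cechSh_X [Finite ι] [IsAffineHom (pullback.diagonal (terminal.from X))] (hF : Coh.IsQCoh F) (p : ℕ) :
    Coh.IsQCoh (((CechOX.cechSh U).obj F).X p) := by
  let g : (Fin (p + 1) → ι) → X.Modules := fun a ↦ (CechOX.pushRestr (∏ᶜ (U ∘ a))).obj F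
  haveI : HasFiniteBiproducts X.Modules := Abelian.hasFiniteBiproducts
  have := GrothLib.QCoh.isQuasicoherent_colimit (Discrete.functor g) (fun a ↦ isQCoh_pushRestr U hU F hF a.as)
  exact GrothLib.QCoh.isQuasicoherent_of_iso (M := ∐ g)
    ((biproduct.isoCoproduct g).symm ≪≫ biproduct.isoProduct g)

include hU in
theorem isAcyclicObj_cechSh_X [Finite ι] [IsAffineHom (pullback.diagonal (terminal.from X))]
    [IsAffineHom (pullback.diagonal (terminal.from S))] [HasInjectiveResolutions X.Modules] (hF : Coh.IsQCoh F)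
    (p : ℕ) : GrothSS.IsAcyclicObj (Scheme.Modules.pushforward f) (((CechOX.cechSh U).obj F).X p) := by
  refine isAcyclicObj_pi f (fun a : Fin (p + 1) → ι => (CechOX.pushRestr (∏ᶜ (U ∘ a))).obj F) fun a k => ?_
  have hA := isAffineOpen_cechIndex U hU a
  generalize (∏ᶜ (U ∘ a)) = W at hA ⊢
  haveI : IsAffine W.toScheme := hA
  haveI : F.IsQuasicoherent := hF
  haveI := isAffineHom_of_affineDiagonal W.ι
  haveI := isAffineHom_of_affineDiagonal (W.ι ≫ f)
  haveI : ((Scheme.Modules.restrictFunctor W.ι).obj F).IsQuasicoherent := inferInstance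
  exact Cohom.isZero_Rpush_of_acyclicOn f _
    (Cohom.acyclicOn_pushforward W.ι f ((Scheme.Modules.restrictFunctor W.ι).obj F)) k

theorem forall_extend_X {K : CochainComplex X.Modules ℕ} {P : X.Modules → Prop}
    (h0 : ∀ {M : X.Modules}, IsZero M → P M) (hiso : ∀ {M N : X.Modules}, (M ≅ N) → P M → P N)
    (h : ∀ p, P (K.X p)) (n : ℤ) : P ((K.extend ComplexShape.embeddingUpNat).X n) := by
  by_cases hn : ∃ p : ℕ, ComplexShape.embeddingUpNat.f p = n
  · obtain ⟨p, hp⟩ := hn
    exact hiso (K.extendXIso _ hp).symm (h p)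
  · exact h0 (K.isZero_extend_X _ n fun p hp => hn ⟨p, hp⟩)

/-- `F` is isomorphic to its Čech resolution in the derived category. -/
theorem nonempty_inD_iso_cechShZ (hcov : ⨆ i, U i = ⊤) :
    Nonempty (DCoh.inD X F ≅ DCoh.toD X (CechOX.cechShZ U F)) := by
  haveI := quasiIso_augMap U F hcov
  exact ⟨(DerivedCategory.singleFunctorIsoCompQ X.Modules 0).app F ≪≫
    DerivedCategory.Q.mapIso (HomologicalComplex.extendSingleIso ComplexShape.embeddingUpNat F 0 0 rfl).symm ≪≫
    asIso (DerivedCategory.Q.map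
      (HomologicalComplex.extendMap (augMap U F (aug_d U F hcov)) ComplexShape.embeddingUpNat))⟩

/-- Acyclic quasi-coherent complexes compute `Rf_*`. -/
noncomputable def rpushIsoOfAcyclic [QuasiCompact f] [QuasiSeparated f] [HasInjectiveResolutions X.Modules]
    [DCoh.HasRpush f] (T : CochainComplex X.Modules ℤ) (hq : ∀ n, Coh.IsQCoh (T.X n))
    (hac : ∀ n, GrothSS.IsAcyclicObj (Scheme.Modules.pushforward f) (T.X n)) :
    DCoh.toD S (((Scheme.Modules.pushforward f).mapHomologicalComplex (ComplexShape.up ℤ)).obj T) ≅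
      (DCoh.Rpush f).obj (DCoh.toD X T) :=
  (DerivedCategory.quotientCompQhIso S.Modules).symm.app _ ≪≫
    @asIso _ _ _ _ (OX.pushUnit f T) (OX.isIso_pushUnit_of_acyclic f T hq hac) ≪≫
    (SiteDer.Rres (OX.rmor f)).mapIso ((DerivedCategory.quotientCompQhIso X.Modules).app T) ≪≫
    (OX.rpushIsoRres f).symm.app _

include hU in
theorem nonempty_relCechZ_iso [CompactSpace X] [Finite ι] [IsAffineHom (pullback.diagonal (terminal.from X))]
    [IsAffineHom (pullback.diagonal (terminal.from S))] (hF : Coh.IsQCoh F) (hcov : ⨆ i, U i = ⊤)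
    [DCoh.HasRpush f] :
    Nonempty (DCoh.toD S (CechOX.relCechZ U f F) ≅ (DCoh.Rpush f).obj (DCoh.inD X F)) := by
  haveI := quasiSeparated_of_affineDiagonal f
  haveI := quasiCompact_of_affineDiagonal f
  obtain ⟨e⟩ := nonempty_inD_iso_cechShZ U F hcov
  refine ⟨DerivedCategory.Q.mapIso (BCCoh.mapExtendIso ComplexShape.embeddingUpNat
      (Scheme.Modules.pushforward f) ((CechOX.cechSh U).obj F)).symm ≪≫
    rpushIsoOfAcyclic f (CechOX.cechShZ U F)
      (fun n => forall_extend_X (fun h => OX.isQCoh_of_isZero h) (fun e h => OX.isQCoh_of_iso e h)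
        (isQCoh_cechSh_X U hU F hF) n)
      (fun n => forall_extend_X (P := GrothSS.IsAcyclicObj (Scheme.Modules.pushforward f))
        (fun h => GrothSS.isAcyclicObj_of_isZero _ h) (fun e h => GrothSS.isAcyclicObj_of_iso _ e h)
        (isAcyclicObj_cechSh_X f U hU F hF) n) ≪≫
    (DCoh.Rpush f).mapIso e.symm⟩

include hU in
theorem isQCoh_relCech_X [CompactSpace X] [Finite ι] [IsAffineHom (pullback.diagonal (terminal.from X))]
    [IsAffineHom (pullback.diagonal (terminal.from S))] (hF : Coh.IsQCoh F) (p : ℕ) :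
    Coh.IsQCoh (((CechOX.relCech U f).obj F).X p) := by
  haveI := quasiSeparated_of_affineDiagonal f
  haveI := quasiCompact_of_affineDiagonal f
  haveI : (((CechOX.cechSh U).obj F).X p).IsQuasicoherent := isQCoh_cechSh_X U hU F hF p
  exact GrothLib.QCoh.isQuasicoherent_pushforward f (((CechOX.cechSh U).obj F).X p)

/-- Terms of the Čech complex of sheaves for a family with affine intersection maps. -/
theorem isQCoh_cechSh_X' [Finite ι] (hF : Coh.IsQCoh F) (p : ℕ)
    (hj : ∀ a : Fin (p + 1) → ι, IsAffineHom (∏ᶜ (U ∘ a) : X.Opens).ι) :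
    Coh.IsQCoh (((CechOX.cechSh U).obj F).X p) := by
  let g : (Fin (p + 1) → ι) → X.Modules := fun a ↦ (CechOX.pushRestr (∏ᶜ (U ∘ a))).obj F
  have hg : ∀ a, (g a).IsQuasicoherent := fun a => by
    have h := hj a
    simp only [g]
    generalize (∏ᶜ (U ∘ a)) = W at h ⊢
    haveI : F.IsQuasicoherent := hF
    haveI := h
    haveI : ((Scheme.Modules.restrictFunctor W.ι).obj F).IsQuasicoherent := inferInstance
    exact GrothLib.QCoh.isQuasicoherent_pushforward W.ι ((Scheme.Modules.restrictFunctor W.ι).obj F)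
  haveI : HasFiniteBiproducts X.Modules := Abelian.hasFiniteBiproducts
  have := GrothLib.QCoh.isQuasicoherent_colimit (Discrete.functor g) (fun a ↦ hg a.as)
  exact GrothLib.QCoh.isQuasicoherent_of_iso (M := ∐ g)
    ((biproduct.isoCoproduct g).symm ≪≫ biproduct.isoProduct g)

/-- Terms of the Čech complex of sheaves are acyclic when the intersections are affine over the base. -/
theorem isAcyclicObj_cechSh_X' [Finite ι] [HasInjectiveResolutions X.Modules] (hF : Coh.IsQCoh F) (p : ℕ)
    (hj : ∀ a : Fin (p + 1) → ι, IsAffineHom (∏ᶜ (U ∘ a) : X.Opens).ι)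
    (hjf : ∀ a : Fin (p + 1) → ι, IsAffineHom ((∏ᶜ (U ∘ a) : X.Opens).ι ≫ f)) :
    GrothSS.IsAcyclicObj (Scheme.Modules.pushforward f) (((CechOX.cechSh U).obj F).X p) := by
  refine isAcyclicObj_pi f (fun a : Fin (p + 1) → ι => (CechOX.pushRestr (∏ᶜ (U ∘ a))).obj F) fun a k => ?_
  have h := hj a
  have h' := hjf a
  generalize (∏ᶜ (U ∘ a)) = W at h h' ⊢
  haveI : F.IsQuasicoherent := hF
  haveI := h
  haveI := h'
  haveI : ((Scheme.Modules.restrictFunctor W.ι).obj F).IsQuasicoherent := inferInstance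
  exact Cohom.isZero_Rpush_of_acyclicOn f _
    (Cohom.acyclicOn_pushforward W.ι f ((Scheme.Modules.restrictFunctor W.ι).obj F)) k

/-- The relative Čech complex computes `Rf_*` for a family with intersections affine over the base. -/
theorem nonempty_relCechZ_iso' [QuasiCompact f] [QuasiSeparated f] [Finite ι] (hF : Coh.IsQCoh F)
    (hj : ∀ p : ℕ, ∀ a : Fin (p + 1) → ι, IsAffineHom (∏ᶜ (U ∘ a) : X.Opens).ι)
    (hjf : ∀ p : ℕ, ∀ a : Fin (p + 1) → ι, IsAffineHom ((∏ᶜ (U ∘ a) : X.Opens).ι ≫ f))
    (hcov : ⨆ i, U i = ⊤) [DCoh.HasRpush f] :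
    Nonempty (DCoh.toD S (CechOX.relCechZ U f F) ≅ (DCoh.Rpush f).obj (DCoh.inD X F)) := by
  obtain ⟨e⟩ := nonempty_inD_iso_cechShZ U F hcov
  refine ⟨DerivedCategory.Q.mapIso (BCCoh.mapExtendIso ComplexShape.embeddingUpNat
      (Scheme.Modules.pushforward f) ((CechOX.cechSh U).obj F)).symm ≪≫
    rpushIsoOfAcyclic f (CechOX.cechShZ U F)
      (fun n => forall_extend_X (fun h => OX.isQCoh_of_isZero h) (fun e h => OX.isQCoh_of_iso e h)
        (fun p => isQCoh_cechSh_X' U F hF p (hj p)) n)
      (fun n => forall_extend_X (P := GrothSS.IsAcyclicObj (Scheme.Modules.pushforward f))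
        (fun h => GrothSS.isAcyclicObj_of_isZero _ h) (fun e h => GrothSS.isAcyclicObj_of_iso _ e h)
        (fun p => isAcyclicObj_cechSh_X' f U F hF p (hj p) (hjf p)) n) ≪≫
    (DCoh.Rpush f).mapIso e.symm⟩

end GrothLib.BCAcyc22
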